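import Cfsg.Agent.Lib.Grp.He.Defs

set_option autoImplicit false
set_option maxRecDepth 100000
set_option Elab.async false

namespace Cfsg.Agent.CG.He

theorem c0 : allRange (chkBase 2058 16 (appT tabs t69 0xffff) 0 (inv 0)) 0 2058 = true := by decide +kernel
theorem c1 : allRange (chkBase 2058 16 (appT tabs t69 0xffff) 1 (inv 1)) 0 2058 = true := by decide +kernel
theorem c2 : allRange (chkBase 2058 16 (appT tabs t69 0xffff) 2 (inv 2)) 0 2058 = true := by decide +kernel
theorem c3 : allRange (chkBase 2058 16 (appT tabs t69 0xffff) 3 (inv 3)) 0 2058 = true := by decide +kernel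
theorem c4 : allRange (chkBase 2058 16 (appT tabs t69 0xffff) 4 (inv 4)) 0 2058 = true := by decide +kernel
theorem c5 : allRange (chkBase 2058 16 (appT tabs t69 0xffff) 5 (inv 5)) 0 2058 = true := by decide +kernel
theorem c6 : allRange (chkBase 2058 16 (appT tabs t69 0xffff) 6 (inv 6)) 0 2058 = true := by decide +kernel
theorem c7 : chkDef 16 (appT tabs t69 0xffff) 7 (slp 7) 0 2058 = true := by decide +kernel
theorem c8 : chkDef 16 (appT tabs t69 0xffff) 8 (slp 8) 0 2058 = true := by decide +kernel
theorem c9 : chkDef 16 (appT tabs t69 0xffff) 9 (slp 9) 0 2058 = true := by decide +kernel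
theorem c10 : chkDef 16 (appT tabs t69 0xffff) 10 (slp 10) 0 2058 = true := by decide +kernel
theorem c11 : chkDef 16 (appT tabs t69 0xffff) 11 (slp 11) 0 2058 = true := by decide +kernel
theorem c12 : chkDef 16 (appT tabs t69 0xffff) 12 (slp 12) 0 2058 = true := by decide +kernel
theorem c13 : chkDef 16 (appT tabs t69 0xffff) 13 (slp 13) 0 2058 = true := by decide +kernel
theorem c14 : chkDef 16 (appT tabs t69 0xffff) 14 (slp 14) 0 2058 = true := by decide +kernel
theorem c15 : chkDef 16 (appT tabs t69 0xffff) 15 (slp 15) 0 2058 = true := by decide +kernel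
theorem c16 : chkDef 16 (appT tabs t69 0xffff) 16 (slp 16) 0 2058 = true := by decide +kernel
theorem c17 : chkDef 16 (appT tabs t69 0xffff) 17 (slp 17) 0 2058 = true := by decide +kernel
theorem c18 : chkDef 16 (appT tabs t69 0xffff) 18 (slp 18) 0 2058 = true := by decide +kernel
theorem c19 : chkDef 16 (appT tabs t69 0xffff) 19 (slp 19) 0 2058 = true := by decide +kernel
theorem c20 : chkDef 16 (appT tabs t69 0xffff) 20 (slp 20) 0 2058 = true := by decide +kernel
theorem c21 : chkDef 16 (appT tabs t69 0xffff) 21 (slp 21) 0 2058 = true := by decide +kernel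
theorem c22 : chkDef 16 (appT tabs t69 0xffff) 22 (slp 22) 0 2058 = true := by decide +kernel
theorem c23 : chkDef 16 (appT tabs t69 0xffff) 23 (slp 23) 0 2058 = true := by decide +kernel
theorem c24 : chkDef 16 (appT tabs t69 0xffff) 24 (slp 24) 0 2058 = true := by decide +kernel
theorem c25 : chkDef 16 (appT tabs t69 0xffff) 25 (slp 25) 0 2058 = true := by decide +kernel
theorem c26 : chkDef 16 (appT tabs t69 0xffff) 26 (slp 26) 0 2058 = true := by decide +kernel
theorem c27 : chkDef 16 (appT tabs t69 0xffff) 27 (slp 27) 0 2058 = true := by decide +kernel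
theorem c28 : chkDef 16 (appT tabs t69 0xffff) 28 (slp 28) 0 2058 = true := by decide +kernel
theorem c29 : chkDef 16 (appT tabs t69 0xffff) 29 (slp 29) 0 2058 = true := by decide +kernel
theorem c30 : chkDef 16 (appT tabs t69 0xffff) 30 (slp 30) 0 2058 = true := by decide +kernel
theorem c31 : chkDef 16 (appT tabs t69 0xffff) 31 (slp 31) 0 2058 = true := by decide +kernel
theorem c32 : chkDef 16 (appT tabs t69 0xffff) 32 (slp 32) 0 2058 = true := by decide +kernel
theorem c33 : chkDef 16 (appT tabs t69 0xffff) 33 (slp 33) 0 2058 = true := by decide +kernel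
theorem c34 : chkDef 16 (appT tabs t69 0xffff) 34 (slp 34) 0 2058 = true := by decide +kernel
theorem c35 : chkDef 16 (appT tabs t69 0xffff) 35 (slp 35) 0 2058 = true := by decide +kernel
theorem c36 : chkDef 16 (appT tabs t69 0xffff) 36 (slp 36) 0 2058 = true := by decide +kernel
theorem c37 : chkDef 16 (appT tabs t69 0xffff) 37 (slp 37) 0 2058 = true := by decide +kernel
theorem c38 : chkDef 16 (appT tabs t69 0xffff) 38 (slp 38) 0 2058 = true := by decide +kernel
theorem c39 : chkDef 16 (appT tabs t69 0xffff) 39 (slp 39) 0 2058 = true := by decide +kernel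
theorem c40 : chkDef 16 (appT tabs t69 0xffff) 40 (slp 40) 0 2058 = true := by decide +kernel
theorem c41 : chkDef 16 (appT tabs t69 0xffff) 41 (slp 41) 0 2058 = true := by decide +kernel
theorem c42 : chkDef 16 (appT tabs t69 0xffff) 42 (slp 42) 0 2058 = true := by decide +kernel
theorem c43 : chkDef 16 (appT tabs t69 0xffff) 43 (slp 43) 0 2058 = true := by decide +kernel
theorem c44 : chkDef 16 (appT tabs t69 0xffff) 44 (slp 44) 0 2058 = true := by decide +kernel
theorem c45 : chkDef 16 (appT tabs t69 0xffff) 45 (slp 45) 0 2058 = true := by decide +kernel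
theorem c46 : chkDef 16 (appT tabs t69 0xffff) 46 (slp 46) 0 2058 = true := by decide +kernel
theorem c47 : chkDef 16 (appT tabs t69 0xffff) 47 (slp 47) 0 2058 = true := by decide +kernel
theorem c48 : chkDef 16 (appT tabs t69 0xffff) 48 (slp 48) 0 2058 = true := by decide +kernel
theorem c49 : chkDef 16 (appT tabs t69 0xffff) 49 (slp 49) 0 2058 = true := by decide +kernel
theorem c50 : chkDef 16 (appT tabs t69 0xffff) 50 (slp 50) 0 2058 = true := by decide +kernel
theorem c51 : chkDef 16 (appT tabs t69 0xffff) 51 (slp 51) 0 2058 = true := by decide +kernel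
theorem c52 : chkDef 16 (appT tabs t69 0xffff) 52 (slp 52) 0 2058 = true := by decide +kernel
theorem c53 : chkDef 16 (appT tabs t69 0xffff) 53 (slp 53) 0 2058 = true := by decide +kernel
theorem c54 : chkDef 16 (appT tabs t69 0xffff) 54 (slp 54) 0 2058 = true := by decide +kernel
theorem c55 : chkDef 16 (appT tabs t69 0xffff) 55 (slp 55) 0 2058 = true := by decide +kernel
theorem c56 : chkDef 16 (appT tabs t69 0xffff) 56 (slp 56) 0 2058 = true := by decide +kernel
theorem c57 : chkDef 16 (appT tabs t69 0xffff) 57 (slp 57) 0 2058 = true := by decide +kernel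
theorem c58 : chkDef 16 (appT tabs t69 0xffff) 58 (slp 58) 0 2058 = true := by decide +kernel
theorem c59 : chkDef 16 (appT tabs t69 0xffff) 59 (slp 59) 0 2058 = true := by decide +kernel
theorem c60 : chkDef 16 (appT tabs t69 0xffff) 60 (slp 60) 0 2058 = true := by decide +kernel
theorem c61 : chkDef 16 (appT tabs t69 0xffff) 61 (slp 61) 0 2058 = true := by decide +kernel
theorem c62 : chkDef 16 (appT tabs t69 0xffff) 62 (slp 62) 0 2058 = true := by decide +kernel
theorem c63 : chkDef 16 (appT tabs t69 0xffff) 63 (slp 63) 0 2058 = true := by decide +kernel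
theorem c64 : chkDef 16 (appT tabs t69 0xffff) 64 (slp 64) 0 2058 = true := by decide +kernel
theorem c65 : chkDef 16 (appT tabs t69 0xffff) 65 (slp 65) 0 2058 = true := by decide +kernel
theorem c66 : chkDef 16 (appT tabs t69 0xffff) 66 (slp 66) 0 2058 = true := by decide +kernel
theorem c67 : chkDef 16 (appT tabs t69 0xffff) 67 (slp 67) 0 2058 = true := by decide +kernel
theorem c68 : chkDef 16 (appT tabs t69 0xffff) 68 (slp 68) 0 2058 = true := by decide +kernel
theorem c69 : chkDef 16 (appT tabs t69 0xffff) 69 (false, []) 0 2058 = true := by decide +kernel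
theorem c70 : mc0.chk (appT tabs t69 0xffff) 1 2057 = true := by decide +kernel
theorem c71 : mc1.chk (appT tabs t69 0xffff) 1 135 = true := by decide +kernel
theorem c72 : mc2.chk (appT tabs t69 0xffff) 1 35 = true := by decide +kernel
theorem c73 : mc3.chk (appT tabs t69 0xffff) 1 9 = true := by decide +kernel
theorem c74 : mc4.chk (appT tabs t69 0xffff) 1 4 = true := by decide +kernel
theorem c75 : mc5.chk (appT tabs t69 0xffff) 1 1 = true := by decide +kernel
theorem c76 : mc6.chk (appT tabs t69 0xffff) 1 1 = true := by decide +kernel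
theorem c77 : mc7.chk (appT tabs t69 0xffff) 1 1 = true := by decide +kernel
theorem c78 : okcb 2058 16 (bases mc) = true := by decide +kernel
theorem c79 : headAll (appT tabs t69 0xffff) mc [] = true := by decide +kernel
theorem c80 : tc0.head tcR = true := by decide +kernel
theorem c81 : allL (fun a => tc0.chk a 0 tc0.N) tc0.S = true := by decide +kernel
theorem c82 : tc1.head tcR = true := by decide +kernel
theorem c83 : allL (fun a => tc1.chk a 0 tc1.N) tc1.S = true := by decide +kernel
theorem c84 : tc2.head tcR = true := by decide +kernel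
theorem c85 : allL (fun a => tc2.chk a 0 tc2.N) tc2.S = true := by decide +kernel
theorem c86 : tc3.head tcR = true := by decide +kernel
theorem c87 : allL (fun a => tc3.chk a 0 tc3.N) tc3.S = true := by decide +kernel
theorem c88 : tc4.head tcR = true := by decide +kernel
theorem c89 : allL (fun a => tc4.chk a 0 tc4.N) tc4.S = true := by decide +kernel
theorem c90 : tc5.head tcR = true := by decide +kernel
theorem c91 : allL (fun a => tc5.chk a 0 tc5.N) tc5.S = true := by decide +kernel
theorem c92 : tc6.head tcR = true := by decide +kernel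
theorem c93 : allL (fun a => tc6.chk a 0 tc6.N) tc6.S = true := by decide +kernel
theorem c94 : tc7.head tcR = true := by decide +kernel
theorem c95 : allL (fun a => tc7.chk a 0 tc7.N) tc7.S = true := by decide +kernel
theorem c96 : tcLink tc [] [40,41,42,43,44,45,46,47,48] = true := by decide +kernel
theorem c97 : oneAll 16 (appT tabs t69 0xffff) [40,40] 0 2058 = true := by decide +kernel
theorem c98 : oneAll 16 (appT tabs t69 0xffff) [41,42] 0 2058 = true := by decide +kernel
theorem c99 : oneAll 16 (appT tabs t69 0xffff) [42,41] 0 2058 = true := by decide +kernel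
theorem c100 : oneAll 16 (appT tabs t69 0xffff) [41,41,40] 0 2058 = true := by decide +kernel
theorem c101 : oneAll 16 (appT tabs t69 0xffff) [43,43] 0 2058 = true := by decide +kernel
theorem c102 : oneAll 16 (appT tabs t69 0xffff) [43,40,43,40] 0 2058 = true := by decide +kernel
theorem c103 : oneAll 16 (appT tabs t69 0xffff) [43,41,43,42] 0 2058 = true := by decide +kernel
theorem c104 : oneAll 16 (appT tabs t69 0xffff) [44,44] 0 2058 = true := by decide +kernel
theorem c105 : oneAll 16 (appT tabs t69 0xffff) [44,43,44,43] 0 2058 = true := by decide +kernel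
theorem c106 : oneAll 16 (appT tabs t69 0xffff) [44,40,44,41,44,42] 0 2058 = true := by decide +kernel
theorem c107 : oneAll 16 (appT tabs t69 0xffff) [45,45] 0 2058 = true := by decide +kernel
theorem c108 : oneAll 16 (appT tabs t69 0xffff) [45,40,45,40] 0 2058 = true := by decide +kernel
theorem c109 : oneAll 16 (appT tabs t69 0xffff) [45,42,45,42] 0 2058 = true := by decide +kernel
theorem c110 : oneAll 16 (appT tabs t69 0xffff) [45,43,45,40,43] 0 2058 = true := by decide +kernel
theorem c111 : oneAll 16 (appT tabs t69 0xffff) [45,44,40,45,44,45,44,45,40,44] 0 2058 = true := by decide +kernel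
theorem c112 : oneAll 16 (appT tabs t69 0xffff) [46,46] 0 2058 = true := by decide +kernel
theorem c113 : oneAll 16 (appT tabs t69 0xffff) [46,40,46,40] 0 2058 = true := by decide +kernel
theorem c114 : oneAll 16 (appT tabs t69 0xffff) [46,42,46,42] 0 2058 = true := by decide +kernel
theorem c115 : oneAll 16 (appT tabs t69 0xffff) [46,43,46,43] 0 2058 = true := by decide +kernel
theorem c116 : oneAll 16 (appT tabs t69 0xffff) [46,45,46,45] 0 2058 = true := by decide +kernel
theorem c117 : oneAll 16 (appT tabs t69 0xffff) [46,44,42,46,44,46,40,42,43,44,42] 0 2058 = true := by decide +kernel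
theorem c118 : oneAll 16 (appT tabs t69 0xffff) [44,41,45,44,46,44,46,45,44,46,44,45,42,44,46] 0 2058 = true := by decide +kernel
theorem c119 : oneAll 16 (appT tabs t69 0xffff) [47,47] 0 2058 = true := by decide +kernel
theorem c120 : oneAll 16 (appT tabs t69 0xffff) [47,45,47,45] 0 2058 = true := by decide +kernel
theorem c121 : oneAll 16 (appT tabs t69 0xffff) [47,43,47,43,47,43] 0 2058 = true := by decide +kernel
theorem c122 : oneAll 16 (appT tabs t69 0xffff) [47,46,47,46,47,46] 0 2058 = true := by decide +kernel
theorem c123 : oneAll 16 (appT tabs t69 0xffff) [47,42,47,40,47,41,47,40] 0 2058 = true := by decide +kernel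
theorem c124 : oneAll 16 (appT tabs t69 0xffff) [47,41,47,42,47,41,47,42] 0 2058 = true := by decide +kernel
theorem c125 : oneAll 16 (appT tabs t69 0xffff) [47,44,47,44,47,44,47,44] 0 2058 = true := by decide +kernel
theorem c126 : oneAll 16 (appT tabs t69 0xffff) [47,40,47,46,47,40,47,40,46] 0 2058 = true := by decide +kernel
theorem c127 : oneAll 16 (appT tabs t69 0xffff) [47,44,42,46,44,47,44,42,46,44] 0 2058 = true := by decide +kernel
theorem c128 : oneAll 16 (appT tabs t69 0xffff) [47,42,47,43,47,42,47,42,43,45] 0 2058 = true := by decide +kernel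
theorem c129 : oneAll 16 (appT tabs t69 0xffff) [47,42,47,46,47,42,47,42,45,46] 0 2058 = true := by decide +kernel
theorem c130 : oneAll 16 (appT tabs t69 0xffff) [47,40,44,41,47,42,44,47,40,45,44,46,44] 0 2058 = true := by decide +kernel
theorem c131 : oneAll 16 (appT tabs t69 0xffff) [44,45,47,42,44,45,46,44,41,47,45,44,46,40,45] 0 2058 = true := by decide +kernel
theorem c132 : oneAll 16 (appT tabs t69 0xffff) [48,48] 0 2058 = true := by decide +kernel
theorem c133 : oneAll 16 (appT tabs t69 0xffff) [48,42,46,48,42,46] 0 2058 = true := by decide +kernel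
theorem c134 : oneAll 16 (appT tabs t69 0xffff) [48,41,48,42,48,46] 0 2058 = true := by decide +kernel
theorem c135 : oneAll 16 (appT tabs t69 0xffff) [48,44,47,44,48,44,47,44] 0 2058 = true := by decide +kernel
theorem c136 : oneAll 16 (appT tabs t69 0xffff) [48,40,48,45,48,40,48,42,43,45,47,40,47] 0 2058 = true := by decide +kernel
theorem c137 : oneAll 16 (appT tabs t69 0xffff) [48,42,44,47,40,44,43,40,47,44,41,48,45,47] 0 2058 = true := by decide +kernel
theorem c138 : oneAll 16 (appT tabs t69 0xffff) [41,46,48,43,44,46,48,47,45,48,44,47,48,43,40,44] 0 2058 = true := by decide +kernel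
theorem c139 : oneAll 16 (appT tabs t69 0xffff) [48,45,48,41,47,42,44,45,40,44,46,48,47,48,43] 0 2058 = true := by decide +kernel
theorem c140 : oneAll 16 (appT tabs t69 0xffff) [48,45,48,47,43,46,47,46,43,48,45,48,43,46] 0 2058 = true := by decide +kernel
theorem c141 : oneAll 16 (appT tabs t69 0xffff) [48,41,45,44,40,43,47,41,48,42,43,45,44,40,47,41] 0 2058 = true := by decide +kernel
theorem c142 : oneAll 16 (appT tabs t69 0xffff) [48,44,45,47,48,42,44,46,44,41,48,47,45,44,48,45] 0 2058 = true := by decide +kernel
theorem c143 : oneAll 16 (appT tabs t69 0xffff) [42,43,44,48,43,44,41,47,42,44,43,48,44,43,41,47] 0 2058 = true := by decide +kernel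
theorem c144 : eqAll 16 (appT tabs t69 0xffff) [0] (nth inW [] 0) 0 2058 = true := by decide +kernel
theorem c145 : eqAll 16 (appT tabs t69 0xffff) [1] (nth inW [] 1) 0 2058 = true := by decide +kernel
theorem c146 : eqAll 16 (appT tabs t69 0xffff) [2] (nth inW [] 2) 0 2058 = true := by decide +kernel
theorem c147 : eqAll 16 (appT tabs t69 0xffff) [3] (nth inW [] 3) 0 2058 = true := by decide +kernel
theorem c148 : eqAll 16 (appT tabs t69 0xffff) [4] (nth inW [] 4) 0 2058 = true := by decide +kernel
theorem c149 : eqAll 16 (appT tabs t69 0xffff) [5] (nth inW [] 5) 0 2058 = true := by decide +kernel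
theorem c150 : eqAll 16 (appT tabs t69 0xffff) [6] (nth inW [] 6) 0 2058 = true := by decide +kernel

end Cfsg.Agent.CG.He
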