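import Cfsg.Agent.Lib.Grp.He.D0

set_option autoImplicit false
set_option maxRecDepth 100000
set_option Elab.async false

namespace Cfsg.Agent.CG.He

noncomputable def tabs : List ℕ := [t0,t1,t2,t3,t4,t5,t6,t7,t8,t9,t10,t11,t12,t13,t14,t15,t16,t17,t18,t19,t20,t21,t22,t23,t24,t25,t26,t27,t28,t29,t30,t31,t32,t33,t34,t35,t36,t37,t38,t39,t40,t41,t42,t43,t44,t45,t46,t47,t48,t49,t50,t51,t52,t53,t54,t55,t56,t57,t58,t59,t60,t61,t62,t63,t64,t65,t66,t67,t68]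
noncomputable abbrev app : ℕ → ℕ → ℕ := appT tabs t69 0xffff
noncomputable def slpL : List (Bool × List ℕ) := [(false,[]),
  (false,[]),
  (false,[]),
  (false,[]),
  (false,[]),
  (false,[]),
  (false,[]),
  (false,[5,2,1,3]),
  (true,[7]),
  (false,[6]),
  (false,[7]),
  (true,[10]),
  (false,[0,4,0,1,7,6,1,7,9,2,1,0,2,9,2,0,1,2,9,8,1,6,8,1,0,4,0]),
  (false,[12,10,12,11,12,11,12]),
  (true,[13]),
  (false,[12,10,12,14,12,10,13]),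
  (true,[15]),
  (false,[12,10,14,16,14,11,14]),
  (true,[17]),
  (false,[11,14,11,13,12,17,12,15,11,12,18]),
  (true,[19]),
  (false,[11,18,15,12,16,12,17,12,16,17,10,10]),
  (true,[21]),
  (false,[12,15,18,14,10,13,17,17,14,16]),
  (true,[23]),
  (false,[22,20,21,14,18,10,18,14,12,13,11,14,14,16]),
  (true,[25]),
  (false,[20,22,23,20,11,15,15,12,17,14,12,15,12,10,10]),
  (true,[27]),
  (false,[28,25,28,28,24,24,21,18,12,10,16,16,13,12,16,11,12,18,12]),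
  (true,[29]),
  (false,[28,28,19,22,23,22,17,14,15,11,14,14,12,15,18]),
  (true,[31]),
  (false,[32,32,27,26,26,22,20,22,22,12,16,11,14,18,14,14,17,13,17]),
  (true,[33]),
  (false,[33,31,27,25,21,23,20,13,17,12,16,12,16,14,12,16,18,12,13]),
  (true,[35]),
  (false,[33,33,26,26,28,26,19,23,21,24,14,16,16,12,13,18,15,18,16,11,18]),
  (true,[37]),
  (false,[33,33,32,32,27,19,21,23,19,17,10,16,17,10,13,18,11,15,12,15]),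
  (false,[39]),
  (false,[37,39]),
  (true,[41]),
  (false,[35,37,39]),
  (false,[33,35,37]),
  (false,[32,30,33,33,35,37]),
  (false,[27,27,25,32,35,37,39]),
  (false,[22,19,24,28,26,28,31,29,34,34,35,37]),
  (false,[10,12,11,22,24,20,25,25,28,31,31,34,39]),
  (false,[21,20,21,20,28,28,31,31,35]),
  (false,[17,15,13,16,10,19,21,21,24,25,27,25,32,29,34,37]),
  (true,[50]),
  (false,[10,12,15,23,22,24,20,27,25,28,32,34,37]),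
  (false,[13,15,18,18,11,24,20,21,26,27,27,32,30,35,37]),
  (false,[17,16,18,13,10,20,21,20,28,28,31,31,34,37]),
  (false,[10,10,18,11,19,19,21,21,28,25,25,29,29,34,34,39]),
  (true,[55]),
  (false,[17,16,14,14,24,19,21,21,26,27,26,30,34,34,35,37,39]),
  (true,[57]),
  (false,[23,23,20,28,26,28,32,29,34,34]),
  (true,[59]),
  (false,[26,28,31,31,34,34]),
  (true,[61]),
  (false,[30]),
  (true,[63]),
  (false,[33,33,35,37]),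
  (false,[10,10,10]),
  (true,[66]),
  (false,[10,13,18,23,19,23,19,26,27,32,29,33,35])]
noncomputable def slp (a : ℕ) : Bool × List ℕ := nth slpL (false, []) a
noncomputable def invL : List ℕ := [0,1,2,3,4,5,6,8,7,9,11,10,12,14,13,16,15,18,17,20,19,22,21,24,23,26,25,28,27,30,29,32,31,34,33,36,35,38,37,39,40,42,41,43,44,45,46,47,48,49,51,50,52,53,54,56,55,58,57,60,59,62,61,64,63,65,67,66,68]
noncomputable def inv (a : ℕ) : ℕ := nth invL 69 a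
noncomputable def bs : List ℕ := [112,12288,4480,6448,29360,28016,32224,9104]
noncomputable def mc0 : Lvl := ⟨112, [10,11,12,13,14,15,16,17,18], 2058,
  fun i => look 0xffff mc0c (Nat.mul 16 i), fun i => look 0xfff mc0p (Nat.mul 12 i),
  fun i => look 255 mc0l (Nat.mul 8 i), fun i => look 255 mc0i (Nat.mul 8 i), fun x => look 0xffff mc0q x, 6⟩
noncomputable def mc1 : Lvl := ⟨12288, [19,20,21,22,23,24], 136,
  fun i => look 0xffff mc1c (Nat.mul 16 i), fun i => look 0xff mc1p (Nat.mul 8 i),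
  fun i => look 255 mc1l (Nat.mul 8 i), fun i => look 255 mc1i (Nat.mul 8 i), fun x => look 0xffff mc1q x, 4⟩
noncomputable def mc2 : Lvl := ⟨4480, [25,26,27,28], 36,
  fun i => look 0xffff mc2c (Nat.mul 16 i), fun i => look 0xff mc2p (Nat.mul 8 i),
  fun i => look 255 mc2l (Nat.mul 8 i), fun i => look 255 mc2i (Nat.mul 8 i), fun x => look 0xffff mc2q x, 4⟩
noncomputable def mc3 : Lvl := ⟨6448, [29,30,31,32], 10,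
  fun i => look 0xffff mc3c (Nat.mul 16 i), fun i => look 0xf mc3p (Nat.mul 4 i),
  fun i => look 255 mc3l (Nat.mul 8 i), fun i => look 255 mc3i (Nat.mul 8 i), fun x => look 0xffff mc3q x, 2⟩
noncomputable def mc4 : Lvl := ⟨29360, [33,34], 5,
  fun i => look 0xffff mc4c (Nat.mul 16 i), fun i => look 0xf mc4p (Nat.mul 4 i),
  fun i => look 255 mc4l (Nat.mul 8 i), fun i => look 255 mc4i (Nat.mul 8 i), fun x => look 0xffff mc4q x, 2⟩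
noncomputable def mc5 : Lvl := ⟨28016, [35,36], 2,
  fun i => look 0xffff mc5c (Nat.mul 16 i), fun i => look 0xf mc5p (Nat.mul 4 i),
  fun i => look 255 mc5l (Nat.mul 8 i), fun i => look 255 mc5i (Nat.mul 8 i), fun x => look 0xffff mc5q x, 1⟩
noncomputable def mc6 : Lvl := ⟨32224, [37,38], 2,
  fun i => look 0xffff mc6c (Nat.mul 16 i), fun i => look 0xf mc6p (Nat.mul 4 i),
  fun i => look 255 mc6l (Nat.mul 8 i), fun i => look 255 mc6i (Nat.mul 8 i), fun x => look 0xffff mc6q x, 1⟩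
noncomputable def mc7 : Lvl := ⟨9104, [39], 2,
  fun i => look 0xffff mc7c (Nat.mul 16 i), fun i => look 0xf mc7p (Nat.mul 4 i),
  fun i => look 255 mc7l (Nat.mul 8 i), fun i => look 255 mc7i (Nat.mul 8 i), fun x => look 0xffff mc7q x, 1⟩
noncomputable def mc : List Lvl := [mc0, mc1, mc2, mc3, mc4, mc5, mc6, mc7]
noncomputable def tcR : List (List ℕ) := [[40,40],
  [41,42],
  [42,41],
  [41,41,40],
  [43,43],
  [43,40,43,40],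
  [43,41,43,42],
  [44,44],
  [44,43,44,43],
  [44,40,44,41,44,42],
  [45,45],
  [45,40,45,40],
  [45,42,45,42],
  [45,43,45,40,43],
  [45,44,40,45,44,45,44,45,40,44],
  [46,46],
  [46,40,46,40],
  [46,42,46,42],
  [46,43,46,43],
  [46,45,46,45],
  [46,44,42,46,44,46,40,42,43,44,42],
  [44,41,45,44,46,44,46,45,44,46,44,45,42,44,46],
  [47,47],
  [47,45,47,45],
  [47,43,47,43,47,43],
  [47,46,47,46,47,46],
  [47,42,47,40,47,41,47,40],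
  [47,41,47,42,47,41,47,42],
  [47,44,47,44,47,44,47,44],
  [47,40,47,46,47,40,47,40,46],
  [47,44,42,46,44,47,44,42,46,44],
  [47,42,47,43,47,42,47,42,43,45],
  [47,42,47,46,47,42,47,42,45,46],
  [47,40,44,41,47,42,44,47,40,45,44,46,44],
  [44,45,47,42,44,45,46,44,41,47,45,44,46,40,45],
  [48,48],
  [48,42,46,48,42,46],
  [48,41,48,42,48,46],
  [48,44,47,44,48,44,47,44],
  [48,40,48,45,48,40,48,42,43,45,47,40,47],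
  [48,42,44,47,40,44,43,40,47,44,41,48,45,47],
  [41,46,48,43,44,46,48,47,45,48,44,47,48,43,40,44],
  [48,45,48,41,47,42,44,45,40,44,46,48,47,48,43],
  [48,45,48,47,43,46,47,46,43,48,45,48,43,46],
  [48,41,45,44,40,43,47,41,48,42,43,45,44,40,47,41],
  [48,44,45,47,48,42,44,46,44,41,48,47,45,44,48,45],
  [42,43,44,48,43,44,41,47,42,44,43,48,44,43,41,47]]
noncomputable def tc0T : List ℕ := [0,0,0,0,0,0,0,0,0,0,0,0,0,0,0,0,0,0,0,0,0,0,0,0,0,0,0,0,0,0,0,0,0,0,0,0,0,0,0,0,tc0t40,tc0t41,tc0t42,tc0t43,tc0t44,tc0t45,tc0t46,tc0t47,tc0t48]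
noncomputable def tc0r : Tr Rule := (.node (.node (.node (.node (.node (.node (.node (.node (.leaf ⟨48,[48],35,1⟩) (.leaf ⟨47,[40,47,40,46,47,40,47,46],29,4⟩)) (.node (.leaf ⟨40,[47,42,47,40,47,41,47],26,7⟩) (.leaf ⟨47,[40,47,48,40,48,45,48,40,48,42,43,45],39,10⟩))) (.node (.node (.leaf ⟨44,[41,44,42,44,40],9,2⟩) (.leaf ⟨44,[47,44,42,46,44,47,44,42,46],30,9⟩)) (.leaf ⟨45,[46,45,46],19,1⟩))) (.node (.node (.node (.leaf ⟨42,[45,42,45],12,3⟩) (.leaf ⟨47,[43,47,43,47,43],24,2⟩)) (.node (.leaf ⟨45,[40,45,40],11,2⟩) (.leaf ⟨47,[48,40,48,45,48,40,48,42,43,45,47,40],39,12⟩))) (.node (.node (.leaf ⟨46,[40,46,40],16,2⟩) (.leaf ⟨47,[43,47,42,47,42,43,45,47,42],31,2⟩)) (.leaf ⟨44,[43,44,43],8,0⟩)))) (.node (.node (.node (.node (.leaf ⟨46,[46],15,1⟩) (.leaf ⟨46,[47,40,47,40,46,47,40,47],29,3⟩)) (.node (.leaf ⟨45,[48,40,48,42,43,45,47,40,47,48,40,48],39,3⟩)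 (.leaf ⟨47,[42,47,42,43,45,47,42,47,43],31,4⟩))) (.node (.node (.leaf ⟨40,[47,41,47,40,47,42,47],26,3⟩) (.leaf ⟨45,[44,46,44,47,40,44,41,47,42,44,47,40],33,9⟩)) (.leaf ⟨40,[44,41,44,42,44],9,1⟩))) (.node (.node (.node (.leaf ⟨45,[42,45,42],12,0⟩) (.leaf ⟨45,[46,47,42,47,46,47,42,47,42],32,8⟩)) (.node (.leaf ⟨44,[48,44,47,44,48,44,47],38,7⟩) (.leaf ⟨40,[44,41,46,48,43,44,46,48,47,45,48,44,47,48,43],41,14⟩))) (.node (.node (.leaf ⟨47,[42,47,46,47,42,47,42,45,46],32,0⟩) (.leaf ⟨40,[46,47,40,47,46,47,40,47],29,7⟩)) (.leaf ⟨40,[43,47,41,48,42,43,45,44,40,47,41,48,41,45,44],44,4⟩))))) (.node (.node (.node (.node (.node (.leaf ⟨43,[43],4,1⟩) (.leaf ⟨47,[40,45,44,46,44,47,40,44,41,47,42,44],33,7⟩)) (.node (.leaf ⟨43,[47,43,47,43,47],24,3⟩) (.leaf ⟨43,[45,47,40,47,48,40,48,45,48,40,48,42],39,8⟩))) (.node (.node (.leaf ⟨45,[40,43,45,43],13,2⟩)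 (.leaf ⟨46,[40,42,43,44,42,46,44,42,46,44],20,5⟩)) (.leaf ⟨48,[42,43,45,47,40,47,48,40,48,45,48,40],39,6⟩))) (.node (.node (.node (.leaf ⟨42,[46,42,46],17,3⟩) (.leaf ⟨47,[40,47,42,47,40,47,41],26,6⟩)) (.node (.leaf ⟨47,[43,47,43,47,43],24,0⟩) (.leaf ⟨44,[41,48,45,47,48,42,44,47,40,44,43,40,47],40,9⟩))) (.node (.node (.leaf ⟨46,[42,46,42],17,2⟩) (.leaf ⟨47,[44,48,44,47,44,48,44],38,2⟩)) (.leaf ⟨48,[42,46,48,42,46],36,0⟩)))) (.node (.node (.node (.node (.leaf ⟨40,[41,41],3,2⟩) (.leaf ⟨44,[45,44,45,40,44,45,44,40,45],14,4⟩)) (.node (.leaf ⟨43,[47,42,47,42,43,45,47,42,47],31,3⟩) (.leaf ⟨47,[42,47,42,45,46,47,42,47,46],32,4⟩))) (.node (.node (.leaf ⟨40,[45,40,45],11,1⟩) (.leaf ⟨44,[45,44,40,45,44,45,44,45,40],14,9⟩)) (.leaf ⟨44,[46,40,42,43,44,42,46,44,42,46],20,4⟩))) (.node (.node (.node (.leaf ⟨43,[45,40,43,45],13,1⟩)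 (.leaf ⟨44,[47,44,42,46,44,47,44,42,46],30,4⟩)) (.leaf ⟨46,[47,40,47,46,47,40,47,40],29,8⟩)) (.node (.node (.leaf ⟨46,[48,41,48,42,48],37,5⟩) (.leaf ⟨47,[40,46,47,40,47,46,47,40],29,6⟩)) (.leaf ⟨45,[48,44,45,47,48,42,44,46,44,41,48,47,45,44,48],45,15⟩)))))) (.node (.node (.node (.node (.node (.node (.leaf ⟨42,[41],1,1⟩) (.leaf ⟨46,[44,47,40,44,41,47,42,44,47,40,45,44],33,11⟩)) (.node (.leaf ⟨44,[47,44,48,44,47,44,48],38,5⟩) (.leaf ⟨44,[47,44,48,44,47,44,48],38,1⟩))) (.node (.node (.leaf ⟨44,[42,44,40,44,41],9,4⟩) (.leaf ⟨47,[44,47,44,47,44,47,44],28,2⟩)) (.leaf ⟨47,[44,47,44,47,44,47,44],28,4⟩))) (.node (.node (.node (.leaf ⟨45,[47,45,47],23,3⟩) (.leaf ⟨41,[47,40,47,42,47,40,47],26,5⟩)) (.node (.leaf ⟨47,[45,47,45],23,0⟩) (.leaf ⟨48,[40,48,45,48,40,48,42,43,45,47,40,47],39,0⟩))) (.node (.node (.leaf ⟨46,[45,46,45],19,2⟩)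 (.leaf ⟨48,[45,48,40,48,42,43,45,47,40,47,48,40],39,2⟩)) (.leaf ⟨43,[45,43,45,40],13,4⟩)))) (.node (.node (.node (.node (.leaf ⟨40,[43,40,43],5,3⟩) (.leaf ⟨48,[42,46,48,42,46],36,3⟩)) (.node (.leaf ⟨46,[47,42,47,42,45,46,47,42,47],32,3⟩) (.leaf ⟨42,[43,45,47,40,47,48,40,48,45,48,40,48],39,7⟩))) (.node (.node (.leaf ⟨42,[47,41,47,42,47,41,47],27,7⟩) (.leaf ⟨44,[47,40,44,43,40,47,44,41,48,45,47,48,42],40,2⟩)) (.leaf ⟨43,[44,42,46,44,42,46,44,46,40,42],20,8⟩))) (.node (.node (.node (.leaf ⟨43,[41,43,42],6,0⟩) (.leaf ⟨44,[42,46,44,47,44,42,46,44,47],30,1⟩)) (.leaf ⟨47,[40,47,41,47,40,47,42],26,2⟩)) (.node (.node (.leaf ⟨48,[46,48,41,48,42],37,4⟩) (.leaf ⟨40,[47,40,46,47,40,47,46,47],29,5⟩)) (.leaf ⟨42,[44,47,40,44,43,40,47,44,41,48,45,47,48],40,1⟩))))) (.node (.node (.node (.node (.node (.leaf ⟨45,[45],10,1⟩) (.leaf ⟨48,[42,44,47,40,44,43,40,47,44,41,48,45,47],40,0⟩))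 (.node (.leaf ⟨47,[41,47,42,47,41,47,42],27,4⟩) (.leaf ⟨41,[48,45,47,48,42,44,47,40,44,43,40,47,44],40,10⟩))) (.node (.node (.leaf ⟨40,[43,45,43,45],13,3⟩) (.leaf ⟨48,[44,47,44,48,44,47,44],38,4⟩)) (.leaf ⟨44,[41,46,48,43,44,46,48,47,45,48,44,47,48,43,40],41,15⟩))) (.node (.node (.node (.leaf ⟨43,[46,43,46],18,3⟩) (.leaf ⟨48,[44,47,44,48,44,47,44],38,0⟩)) (.node (.leaf ⟨47,[42,47,40,47,41,47,40],26,0⟩) (.leaf ⟨44,[48,45,48,44,45,47,48,42,44,46,44,41,48,47,45],45,13⟩))) (.node (.node (.leaf ⟨42,[46,42,46],17,1⟩) (.leaf ⟨48,[43,46,48,45,48,47,43,46,47,46,43,48,45],43,11⟩)) (.leaf ⟨40,[48,45,48,40,48,42,43,45,47,40,47,48],39,1⟩)))) (.node (.node (.node (.node (.leaf ⟨42,[43,41,43],6,3⟩) (.leaf ⟨43,[47,43,47,43,47],24,1⟩)) (.node (.leaf ⟨47,[42,47,43,47,42,47,42,43,45],31,0⟩) (.leaf ⟨46,[47,46,47,46,47],25,1⟩))) (.node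 (.node (.leaf ⟨42,[46,48,42,46,48],36,4⟩) (.leaf ⟨43,[46,43,46],18,1⟩)) (.leaf ⟨46,[44,46,40,42,43,44,42,46,44,42],20,3⟩))) (.node (.node (.node (.leaf ⟨45,[42,45,42],12,2⟩) (.leaf ⟨45,[44,40,45,44,45,44,45,40,44],14,0⟩)) (.leaf ⟨47,[42,43,45,47,42,47,43,47,42],31,6⟩)) (.node (.node (.leaf ⟨41,[48,42,48,46,48],37,1⟩) (.leaf ⟨42,[47,42,45,46,47,42,47,46,47],32,5⟩)) (.leaf ⟨47,[42,44,43,48,44,43,41,47,42,43,44,48,43,44,41],46,7⟩))))))) (.node (.node (.node (.node (.node (.node (.node (.leaf ⟨40,[40],0,1⟩) (.leaf ⟨47,[46,47,40,47,40,46,47,40],29,2⟩)) (.node (.leaf ⟨47,[44,48,44,47,44,48,44],38,6⟩) (.leaf ⟨48,[45,48,47,43,46,47,46,43,48,45,48,43,46],43,0⟩))) (.node (.node (.leaf ⟨47,[43,47,43,47,43],24,4⟩) (.leaf ⟨45,[40,44,45,44,40,45,44,45,44],14,7⟩)) (.leaf ⟨47,[44,42,46,44,47,44,42,46,44],30,5⟩))) (.node (.node (.node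 (.leaf ⟨43,[44,43,44],8,3⟩) (.leaf ⟨47,[46,47,46,47,46],25,2⟩)) (.node (.leaf ⟨42,[45,42,45],12,1⟩) (.leaf ⟨47,[43,46,47,46,43,48,45,48,43,46,48,45,48],43,3⟩))) (.node (.node (.leaf ⟨46,[43,46,43],18,2⟩) (.leaf ⟨48,[47,43,46,47,46,43,48,45,48,43,46,48,45],43,2⟩)) (.leaf ⟨43,[48,45,48,41,47,42,44,45,40,44,46,48,47,48],42,14⟩)))) (.node (.node (.node (.node (.leaf ⟨41,[40,41],3,1⟩) (.leaf ⟨46,[44,47,44,42,46,44,47,44,42],30,3⟩)) (.node (.leaf ⟨45,[44,45,40,44,45,44,40,45,44],14,5⟩) (.leaf ⟨46,[43,48,45,48,43,46,48,45,48,47,43,46,47],43,7⟩))) (.node (.node (.leaf ⟨41,[47,42,47,41,47,42,47],27,5⟩) (.leaf ⟨46,[45,46,45],19,0⟩)) (.leaf ⟨43,[40,43,40],5,2⟩))) (.node (.node (.node (.leaf ⟨43,[40,43,40],5,0⟩) (.leaf ⟨47,[46,47,46,47,46],25,0⟩)) (.leaf ⟨46,[40,46,40],16,0⟩)) (.node (.node (.leaf ⟨45,[47,45,47],23,1⟩) (.leaf ⟨46,[47,42,47,46,47,42,47,42,45],32,9⟩))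 (.leaf ⟨44,[42,46,44,42,46,44,46,40,42,43],20,9⟩))))) (.node (.node (.node (.node (.node (.leaf ⟨44,[44],7,1⟩) (.leaf ⟨48,[45,47,48,42,44,47,40,44,43,40,47,44,41],40,11⟩)) (.node (.leaf ⟨46,[47,46,47,46,47],25,3⟩) (.leaf ⟨43,[46,47,46,43,48,45,48,43,46,48,45,48,47],43,4⟩))) (.node (.node (.leaf ⟨47,[46,47,46,47,46],25,4⟩) (.leaf ⟨44,[47,40,45,44,46,44,47,40,44,41,47,42],33,6⟩)) (.leaf ⟨48,[40,48,42,43,45,47,40,47,48,40,48,45],39,4⟩))) (.node (.node (.node (.leaf ⟨45,[46,45,46],19,3⟩) (.leaf ⟨44,[47,44,47,44,47,44,47],28,1⟩)) (.node (.leaf ⟨47,[41,47,40,47,42,47,40],26,4⟩) (.leaf ⟨42,[47,43,47,42,47,42,43,45,47],31,1⟩))) (.node (.node (.leaf ⟨47,[45,47,45],23,2⟩) (.leaf ⟨45,[48,43,46,48,45,48,47,43,46,47,46,43,48],43,10⟩)) (.leaf ⟨40,[48,42,43,45,47,40,47,48,40,48,45,48],39,5⟩)))) (.node (.node (.node (.node (.leaf ⟨41,[41,40],3,0⟩)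 (.leaf ⟨44,[47,44,47,44,47,44,47],28,5⟩)) (.node (.leaf ⟨43,[45,47,42,47,43,47,42,47,42],31,8⟩) (.leaf ⟨45,[47,40,47,48,40,48,45,48,40,48,42,43],39,9⟩))) (.node (.node (.leaf ⟨46,[48,42,46,48,42],36,5⟩) (.leaf ⟨48,[45,48,43,46,48,45,48,47,43,46,47,46,43],43,9⟩)) (.leaf ⟨41,[44,42,44,40,44],9,3⟩))) (.node (.node (.node (.leaf ⟨40,[43,40,43],5,1⟩) (.leaf ⟨47,[41,47,42,47,41,47,42],27,0⟩)) (.leaf ⟨42,[47,42,43,45,47,42,47,43,47],31,5⟩)) (.node (.node (.leaf ⟨42,[48,46,48,41,48],37,3⟩) (.leaf ⟨47,[42,47,41,47,42,47,41],27,2⟩)) (.leaf ⟨48,[42,44,46,44,41,48,47,45,44,48,45,48,44,45,47],45,4⟩)))))) (.node (.node (.node (.node (.node (.node (.leaf ⟨41,[42],1,0⟩) (.leaf ⟨42,[46,44,47,44,42,46,44,47,44],30,2⟩)) (.node (.leaf ⟨44,[48,44,47,44,48,44,47],38,3⟩) (.leaf ⟨42,[47,46,47,42,47,42,45,46,47],32,1⟩))) (.node (.node (.leaf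 ⟨44,[43,44,43],8,2⟩) (.leaf ⟨47,[42,47,41,47,42,47,41],27,6⟩)) (.leaf ⟨47,[44,42,46,44,47,44,42,46,44],30,0⟩))) (.node (.node (.node (.leaf ⟨40,[46,40,46],16,3⟩) (.leaf ⟨42,[47,41,47,42,47,41,47],27,3⟩)) (.node (.leaf ⟨46,[42,46,42],17,0⟩) (.leaf ⟨47,[44,47,44,47,44,47,44],28,0⟩))) (.node (.node (.leaf ⟨40,[46,40,46],16,1⟩) (.leaf ⟨42,[46,48,42,46,48],36,1⟩)) (.leaf ⟨46,[48,45,48,47,43,46,47,46,43,48,45,48,43],43,13⟩)))) (.node (.node (.node (.node (.leaf ⟨40,[45,40,45],11,3⟩) (.leaf ⟨44,[42,46,44,47,44,42,46,44,47],30,6⟩)) (.node (.leaf ⟨40,[47,48,40,48,45,48,40,48,42,43,45,47],39,11⟩) (.leaf ⟨41,[47,42,47,41,47,42,47],27,1⟩))) (.node (.node (.leaf ⟨45,[44,45,44,45,40,44,45,44,40],14,3⟩) (.leaf ⟨46,[43,46,43],18,0⟩)) (.leaf ⟨46,[44,42,46,44,46,40,42,43,44,42],20,0⟩))) (.node (.node (.node (.leaf ⟨43,[42,43,41],6,2⟩)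 (.leaf ⟨42,[43,45,47,42,47,43,47,42,47],31,7⟩)) (.leaf ⟨44,[47,44,47,44,47,44,47],28,3⟩)) (.node (.node (.leaf ⟨48,[42,48,46,48,41],37,2⟩) (.leaf ⟨40,[47,46,47,40,47,40,46,47],29,1⟩)) (.leaf ⟨48,[47,45,44,48,45,48,44,45,47,48,42,44,46,44,41],45,10⟩))))) (.node (.node (.node (.node (.node (.leaf ⟨47,[47],22,1⟩) (.leaf ⟨47,[40,44,41,47,42,44,47,40,45,44,46,44],33,0⟩)) (.node (.leaf ⟨44,[47,44,47,44,47,44,47],28,7⟩) (.leaf ⟨47,[46,43,48,45,48,43,46,48,45,48,47,43,46],43,6⟩))) (.node (.node (.leaf ⟨45,[43,45,40,43],13,0⟩) (.leaf ⟨45,[47,48,42,44,47,40,44,43,40,47,44,41,48],40,12⟩)) (.leaf ⟨42,[44,40,44,41,44],9,5⟩))) (.node (.node (.node (.leaf ⟨45,[40,45,40],11,0⟩) (.leaf ⟨42,[47,40,47,41,47,40,47],26,1⟩)) (.node (.leaf ⟨47,[44,47,44,47,44,47,44],28,6⟩) (.leaf ⟨44,[45,47,48,42,44,46,44,41,48,47,45,44,48,45,48],45,1⟩)))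 (.node (.node (.leaf ⟨47,[42,45,46,47,42,47,46,47,42],32,6⟩) (.leaf ⟨43,[46,48,45,48,47,43,46,47,46,43,48,45,48],43,12⟩)) (.leaf ⟨44,[40,47,41,48,41,45,44,40,43,47,41,48,42,43,45],44,12⟩)))) (.node (.node (.node (.node (.leaf ⟨41,[43,42,43],6,1⟩) (.leaf ⟨43,[47,43,47,43,47],24,5⟩)) (.node (.leaf ⟨47,[48,42,44,47,40,44,43,40,47,44,41,48,45],40,13⟩) (.leaf ⟨43,[48,45,48,43,46,48,45,48,47,43,46,47,46],43,8⟩))) (.node (.node (.leaf ⟨46,[48,42,46,48,42],36,2⟩) (.leaf ⟨46,[44,47,44,42,46,44,47,44,42],30,8⟩)) (.leaf ⟨43,[44,43,44],8,1⟩))) (.node (.node (.node (.leaf ⟨44,[40,44,41,44,42],9,0⟩) (.leaf ⟨47,[40,47,46,47,40,47,40,46],29,0⟩)) (.leaf ⟨46,[47,46,47,46,47],25,5⟩)) (.node (.node (.leaf ⟨48,[41,48,42,48,46],37,0⟩) (.leaf ⟨45,[48,47,43,46,47,46,43,48,45,48,43,46,48],43,1⟩)) (.leaf ⟨45,[47,42,47,43,47,42,47,42,43],31,9⟩))))))))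
noncomputable def tc0 : TCL := ⟨[40,41,42,43,44,45,46,47,48], [40,41,42,43,44,45,46,47], 2058, 36, 0x1ffff, 17, 0xff,
  fun a x => look 0xfffffffff (nth tc0T 0 a) x, fun x => look 0xfffffffff tc0d x, tc0r⟩
noncomputable def tc1T : List ℕ := [0,0,0,0,0,0,0,0,0,0,0,0,0,0,0,0,0,0,0,0,0,0,0,0,0,0,0,0,0,0,0,0,0,0,0,0,0,0,0,0,tc1t40,tc1t41,tc1t42,tc1t43,tc1t44,tc1t45,tc1t46,tc1t47]
noncomputable def tc1r : Tr Rule := (.node (.node (.node (.node (.node (.node (.node (.leaf ⟨47,[47],22,1⟩) (.leaf ⟨47,[46,47,42,47,42,45,46,47,42],32,2⟩)) (.node (.leaf ⟨47,[43,47,43,47,43],24,4⟩) (.leaf ⟨47,[45,47,45],23,0⟩))) (.node (.node (.leaf ⟨43,[44,43,44],8,3⟩) (.leaf ⟨47,[44,42,46,44,47,44,42,46,44],30,5⟩)) (.leaf ⟨46,[44,47,44,42,46,44,47,44,42],30,8⟩))) (.node (.node (.node (.leaf ⟨41,[40,41],3,1⟩) (.leaf ⟨45,[44,45,47,42,44,45,46,44,41,47,45,44,46,40],34,14⟩))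 (.node (.leaf ⟨41,[47,42,47,41,47,42,47],27,5⟩) (.leaf ⟨40,[45,40,45],11,1⟩))) (.node (.node (.leaf ⟨44,[41,44,42,44,40],9,2⟩) (.leaf ⟨42,[46,44,47,44,42,46,44,47,44],30,2⟩)) (.leaf ⟨46,[44,46,40,42,43,44,42,46,44,42],20,3⟩)))) (.node (.node (.node (.node (.leaf ⟨43,[43],4,1⟩) (.leaf ⟨47,[40,47,41,47,40,47,42],26,2⟩)) (.node (.leaf ⟨46,[47,46,47,46,47],25,3⟩) (.leaf ⟨44,[47,44,47,44,47,44,47],28,1⟩))) (.node (.node (.leaf ⟨43,[42,43,41],6,2⟩) (.leaf ⟨42,[43,45,47,42,47,43,47,42,47],31,7⟩)) (.leaf ⟨44,[42,46,44,42,46,44,46,40,42,43],20,9⟩))) (.node (.node (.node (.leaf ⟨41,[41,40],3,0⟩) (.leaf ⟨45,[42,45,42],12,0⟩)) (.node (.leaf ⟨47,[40,46,47,40,47,46,47,40],29,6⟩) (.leaf ⟨45,[46,45,46],19,1⟩))) (.node (.node (.leaf ⟨45,[42,45,42],12,2⟩) (.leaf ⟨43,[46,43,46],18,1⟩)) (.leaf ⟨43,[40,43,40],5,2⟩))))) (.node (.node (.node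 (.node (.node (.leaf ⟨42,[41],1,1⟩) (.leaf ⟨47,[40,44,41,47,42,44,47,40,45,44,46,44],33,0⟩)) (.node (.leaf ⟨43,[47,43,47,43,47],24,3⟩) (.leaf ⟨47,[43,47,43,47,43],24,2⟩))) (.node (.node (.leaf ⟨43,[40,43,40],5,0⟩) (.leaf ⟨44,[47,40,45,44,46,44,47,40,44,41,47,42],33,6⟩)) (.leaf ⟨46,[43,46,43],18,2⟩))) (.node (.node (.node (.leaf ⟨40,[46,40,46],16,3⟩) (.leaf ⟨42,[45,42,45],12,1⟩)) (.node (.leaf ⟨44,[47,44,47,44,47,44,47],28,5⟩) (.leaf ⟨45,[40,44,45,44,40,45,44,45,44],14,7⟩))) (.node (.node (.leaf ⟨45,[47,45,47],23,3⟩) (.leaf ⟨44,[43,44,43],8,0⟩)) (.leaf ⟨43,[47,42,47,42,43,45,47,42,47],31,3⟩)))) (.node (.node (.node (.node (.leaf ⟨46,[46],15,1⟩) (.leaf ⟨46,[44,47,40,44,41,47,42,44,47,40,45,44],33,11⟩)) (.node (.leaf ⟨40,[47,41,47,40,47,42,47],26,3⟩) (.leaf ⟨46,[40,46,40],16,0⟩))) (.node (.node (.leaf ⟨44,[43,44,43],8,2⟩)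 (.leaf ⟨47,[43,47,43,47,43],24,0⟩)) (.leaf ⟨43,[44,43,44],8,1⟩))) (.node (.node (.node (.leaf ⟨41,[43,42,43],6,1⟩) (.leaf ⟨45,[44,40,45,44,45,44,45,40,44],14,0⟩)) (.node (.leaf ⟨40,[47,40,46,47,40,47,46,47],29,5⟩) (.leaf ⟨46,[47,42,47,46,47,42,47,42,45],32,9⟩))) (.node (.node (.leaf ⟨45,[40,43,45,43],13,2⟩) (.leaf ⟨47,[46,47,46,47,46],25,0⟩)) (.leaf ⟨46,[47,42,47,42,45,46,47,42,47],32,3⟩)))))) (.node (.node (.node (.node (.node (.node (.leaf ⟨40,[40],0,1⟩) (.leaf ⟨47,[42,44,47,40,45,44,46,44,47,40,44,41],33,4⟩)) (.node (.leaf ⟨47,[45,47,45],23,2⟩) (.leaf ⟨46,[43,46,43],18,0⟩))) (.node (.node (.leaf ⟨43,[46,43,46],18,3⟩) (.leaf ⟨42,[44,47,40,45,44,46,44,47,40,44,41,47],33,5⟩)) (.leaf ⟨46,[40,46,40],16,2⟩))) (.node (.node (.node (.leaf ⟨40,[43,40,43],5,3⟩) (.leaf ⟨42,[45,42,45],12,3⟩)) (.node (.leaf ⟨42,[47,41,47,42,47,41,47],27,3⟩)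 (.leaf ⟨46,[45,46,45],19,0⟩))) (.node (.node (.leaf ⟨40,[43,45,43,45],13,3⟩) (.leaf ⟨46,[42,46,42],17,0⟩)) (.leaf ⟨47,[42,43,45,47,42,47,43,47,42],31,6⟩)))) (.node (.node (.node (.node (.leaf ⟨44,[44],7,1⟩) (.leaf ⟨47,[42,47,41,47,42,47,41],27,2⟩)) (.node (.leaf ⟨41,[47,40,47,42,47,40,47],26,5⟩) (.leaf ⟨41,[44,42,44,40,44],9,3⟩))) (.node (.node (.leaf ⟨44,[42,44,40,44,41],9,4⟩) (.leaf ⟨47,[42,47,41,47,42,47,41],27,6⟩)) (.leaf ⟨40,[44,41,44,42,44],9,1⟩))) (.node (.node (.node (.leaf ⟨42,[43,41,43],6,3⟩) (.leaf ⟨44,[45,40,44,45,44,40,45,44,45],14,6⟩)) (.node (.leaf ⟨46,[47,40,47,40,46,47,40,47],29,3⟩) (.leaf ⟨47,[44,47,44,47,44,47,44],28,0⟩))) (.node (.node (.leaf ⟨45,[46,45,46],19,3⟩) (.leaf ⟨42,[46,42,46],17,1⟩)) (.leaf ⟨47,[42,45,46,47,42,47,46,47,42],32,6⟩))))) (.node (.node (.node (.node (.node (.leaf ⟨41,[42],1,0⟩)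 (.leaf ⟨47,[40,47,42,47,40,47,41],26,6⟩)) (.node (.leaf ⟨47,[46,47,46,47,46],25,4⟩) (.leaf ⟨47,[41,47,42,47,41,47,42],27,0⟩))) (.node (.node (.leaf ⟨43,[41,43,42],6,0⟩) (.leaf ⟨47,[44,47,44,47,44,47,44],28,6⟩)) (.leaf ⟨44,[46,40,42,43,44,42,46,44,42,46],20,4⟩))) (.node (.node (.node (.leaf ⟨40,[41,41],3,2⟩) (.leaf ⟨40,[45,40,45],11,3⟩)) (.node (.leaf ⟨47,[44,47,44,47,44,47,44],28,4⟩) (.leaf ⟨46,[44,47,44,42,46,44,47,44,42],30,3⟩))) (.node (.node (.leaf ⟨45,[40,45,40],11,2⟩) (.leaf ⟨46,[45,46,45],19,2⟩)) (.leaf ⟨47,[43,47,42,47,42,43,45,47,42],31,2⟩)))) (.node (.node (.node (.node (.leaf ⟨45,[45],10,1⟩) (.leaf ⟨46,[42,46,42],17,2⟩)) (.node (.leaf ⟨42,[47,40,47,41,47,40,47],26,1⟩) (.leaf ⟨42,[44,40,44,41,44],9,5⟩))) (.node (.node (.leaf ⟨44,[40,44,41,44,42],9,0⟩) (.leaf ⟨44,[47,44,47,44,47,44,47],28,3⟩)) (.leaf ⟨43,[45,40,43,45],13,1⟩)))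 (.node (.node (.node (.leaf ⟨42,[46,42,46],17,3⟩) (.leaf ⟨47,[40,45,44,46,44,47,40,44,41,47,42,44],33,7⟩)) (.leaf ⟨40,[47,42,47,40,47,41,47],26,7⟩)) (.node (.node (.leaf ⟨45,[43,45,40,43],13,0⟩) (.leaf ⟨43,[47,43,47,43,47],24,5⟩)) (.leaf ⟨42,[47,42,45,46,47,42,47,46,47],32,5⟩)))))))
noncomputable def tc1 : TCL := ⟨[40,41,42,43,44,45,46,47], [40,41,42,43,44,45,46], 136, 28, 0xfff, 12, 0x7f,
  fun a x => look 0xfffffff (nth tc1T 0 a) x, fun x => look 0xfffffff tc1d x, tc1r⟩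
noncomputable def tc2T : List ℕ := [0,0,0,0,0,0,0,0,0,0,0,0,0,0,0,0,0,0,0,0,0,0,0,0,0,0,0,0,0,0,0,0,0,0,0,0,0,0,0,0,tc2t40,tc2t41,tc2t42,tc2t43,tc2t44,tc2t45,tc2t46]
noncomputable def tc2r : Tr Rule := (.node (.node (.node (.node (.node (.node (.leaf ⟨46,[46],15,1⟩) (.leaf ⟨45,[43,45,40,43],13,0⟩)) (.leaf ⟨43,[46,43,46],18,3⟩)) (.node (.node (.leaf ⟨40,[41,41],3,2⟩) (.leaf ⟨46,[44,45,42,44,46,44,41,45,44,46,44,46,45,44],21,9⟩)) (.leaf ⟨45,[46,45,46],19,3⟩))) (.node (.node (.node (.leaf ⟨41,[42],1,0⟩) (.leaf ⟨44,[46,40,42,43,44,42,46,44,42,46],20,4⟩)) (.leaf ⟨43,[41,43,42],6,0⟩)) (.node (.node (.leaf ⟨44,[40,44,41,44,42],9,0⟩) (.leaf ⟨46,[44,41,45,44,46,44,46,45,44,46,44,45,42,44],21,14⟩)) (.leaf ⟨45,[40,45,40],11,2⟩)))) (.node (.node (.node (.node (.leaf ⟨40,[40],0,1⟩) (.leaf ⟨46,[44,46,40,42,43,44,42,46,44,42],20,3⟩))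 (.leaf ⟨43,[40,43,40],5,2⟩)) (.node (.node (.leaf ⟨42,[45,42,45],12,3⟩) (.leaf ⟨46,[44,46,45,44,46,44,45,42,44,46,44,41,45,44],21,4⟩)) (.leaf ⟨45,[40,44,45,44,40,45,44,45,44],14,7⟩))) (.node (.node (.node (.leaf ⟨41,[40,41],3,1⟩) (.leaf ⟨40,[44,41,44,42,44],9,1⟩)) (.leaf ⟨43,[45,40,43,45],13,1⟩)) (.node (.node (.leaf ⟨40,[46,40,46],16,3⟩) (.leaf ⟨41,[44,42,44,40,44],9,3⟩)) (.leaf ⟨45,[44,40,45,44,45,44,45,40,44],14,0⟩))))) (.node (.node (.node (.node (.node (.leaf ⟨44,[44],7,1⟩) (.leaf ⟨46,[40,42,43,44,42,46,44,42,46,44],20,5⟩)) (.leaf ⟨43,[44,43,44],8,3⟩)) (.node (.node (.leaf ⟨41,[41,40],3,0⟩) (.leaf ⟨44,[46,45,44,46,44,45,42,44,46,44,41,45,44,46],21,5⟩)) (.leaf ⟨45,[44,45,40,44,45,44,40,45,44],14,5⟩))) (.node (.node (.node (.leaf ⟨45,[45],10,1⟩) (.leaf ⟨44,[42,46,44,42,46,44,46,40,42,43],20,9⟩)) (.leaf ⟨43,[45,43,45,40],13,4⟩))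 (.node (.node (.leaf ⟨44,[41,44,42,44,40],9,2⟩) (.leaf ⟨44,[45,42,44,46,44,41,45,44,46,44,46,45,44,46],21,10⟩)) (.leaf ⟨45,[42,45,42],12,2⟩)))) (.node (.node (.node (.node (.leaf ⟨42,[41],1,1⟩) (.leaf ⟨46,[45,46,45],19,2⟩)) (.leaf ⟨43,[42,43,41],6,2⟩)) (.node (.node (.leaf ⟨44,[42,44,40,44,41],9,4⟩) (.leaf ⟨44,[46,44,45,42,44,46,44,41,45,44,46,44,46,45],21,8⟩)) (.leaf ⟨45,[44,45,44,45,40,44,45,44,40],14,3⟩))) (.node (.node (.node (.leaf ⟨40,[45,40,45],11,3⟩) (.leaf ⟨40,[43,40,43],5,3⟩)) (.leaf ⟨43,[43],4,1⟩)) (.node (.node (.leaf ⟨42,[46,42,46],17,3⟩) (.leaf ⟨42,[43,41,43],6,3⟩)) (.leaf ⟨45,[40,43,45,43],13,2⟩))))))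
noncomputable def tc2 : TCL := ⟨[40,41,42,43,44,45,46], [40,41,42,43,44,45], 36, 20, 0x3ff, 10, 0x3f,
  fun a x => look 0xfffff (nth tc2T 0 a) x, fun x => look 0xfffff tc2d x, tc2r⟩
noncomputable def tc3T : List ℕ := [0,0,0,0,0,0,0,0,0,0,0,0,0,0,0,0,0,0,0,0,0,0,0,0,0,0,0,0,0,0,0,0,0,0,0,0,0,0,0,0,tc3t40,tc3t41,tc3t42,tc3t43,tc3t44,tc3t45]
noncomputable def tc3r : Tr Rule := (.node (.node (.node (.node (.node (.leaf ⟨45,[45],10,1⟩) (.leaf ⟨43,[41,43,42],6,0⟩)) (.leaf ⟨40,[45,40,45],11,3⟩)) (.node (.leaf ⟨41,[42],1,0⟩) (.leaf ⟨43,[45,43,45,40],13,4⟩))) (.node (.node (.node (.leaf ⟨40,[40],0,1⟩) (.leaf ⟨44,[45,40,44,45,44,40,45,44,45],14,6⟩)) (.leaf ⟨42,[45,42,45],12,3⟩)) (.node (.leaf ⟨40,[41,41],3,2⟩) (.leaf ⟨43,[40,43,40],5,2⟩)))) (.node (.node (.node (.node (.leaf ⟨44,[44],7,1⟩) (.leaf ⟨43,[45,40,43,45],13,1⟩)) (.leaf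 ⟨44,[42,44,40,44,41],9,4⟩)) (.node (.leaf ⟨41,[40,41],3,1⟩) (.leaf ⟨43,[44,43,44],8,3⟩))) (.node (.node (.node (.leaf ⟨42,[41],1,1⟩) (.leaf ⟨44,[45,44,45,40,44,45,44,40,45],14,4⟩)) (.leaf ⟨44,[41,44,42,44,40],9,2⟩)) (.node (.leaf ⟨41,[41,40],3,0⟩) (.leaf ⟨43,[42,43,41],6,2⟩)))))
noncomputable def tc3 : TCL := ⟨[40,41,42,43,44,45], [40,41,42,43,44], 10, 16, 0xff, 8, 0x1f,
  fun a x => look 0xffff (nth tc3T 0 a) x, fun x => look 0xffff tc3d x, tc3r⟩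
noncomputable def tc4T : List ℕ := [0,0,0,0,0,0,0,0,0,0,0,0,0,0,0,0,0,0,0,0,0,0,0,0,0,0,0,0,0,0,0,0,0,0,0,0,0,0,0,0,tc4t40,tc4t41,tc4t42,tc4t43,tc4t44]
noncomputable def tc4r : Tr Rule := (.node (.node (.node (.node (.leaf ⟨44,[44],7,1⟩) (.leaf ⟨43,[40,43,40],5,2⟩)) (.node (.leaf ⟨41,[40,41],3,1⟩) (.leaf ⟨44,[41,44,42,44,40],9,2⟩))) (.node (.node (.leaf ⟨42,[41],1,1⟩) (.leaf ⟨43,[41,43,42],6,0⟩)) (.leaf ⟨41,[41,40],3,0⟩))) (.node (.node (.node (.leaf ⟨40,[40],0,1⟩) (.leaf ⟨43,[42,43,41],6,2⟩)) (.node (.leaf ⟨40,[41,41],3,2⟩) (.leaf ⟨44,[40,44,41,44,42],9,0⟩))) (.node (.node (.leaf ⟨41,[42],1,0⟩) (.leaf ⟨44,[42,44,40,44,41],9,4⟩)) (.leaf ⟨43,[44,43,44],8,3⟩))))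
noncomputable def tc4 : TCL := ⟨[40,41,42,43,44], [40,41,42,43], 5, 16, 0x7f, 7, 0x1f,
  fun a x => look 0xffff (nth tc4T 0 a) x, fun x => look 0xffff tc4d x, tc4r⟩
noncomputable def tc5T : List ℕ := [0,0,0,0,0,0,0,0,0,0,0,0,0,0,0,0,0,0,0,0,0,0,0,0,0,0,0,0,0,0,0,0,0,0,0,0,0,0,0,0,tc5t40,tc5t41,tc5t42,tc5t43]
noncomputable def tc5r : Tr Rule := (.node (.node (.leaf ⟨43,[43],4,1⟩) (.leaf ⟨42,[43,41,43],6,3⟩)) (.node (.leaf ⟨40,[43,40,43],5,3⟩) (.leaf ⟨41,[43,42,43],6,1⟩)))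
noncomputable def tc5 : TCL := ⟨[40,41,42,43], [40,41,42], 2, 16, 0x3f, 6, 0x7,
  fun a x => look 0xffff (nth tc5T 0 a) x, fun x => look 0xffff tc5d x, tc5r⟩
noncomputable def tc6T : List ℕ := [0,0,0,0,0,0,0,0,0,0,0,0,0,0,0,0,0,0,0,0,0,0,0,0,0,0,0,0,0,0,0,0,0,0,0,0,0,0,0,0,tc6t40,tc6t41,tc6t42]
noncomputable def tc6r : Tr Rule := (.node (.node (.leaf ⟨42,[41],1,1⟩) (.leaf ⟨40,[41,41],3,2⟩)) (.leaf ⟨41,[41,40],3,0⟩))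
noncomputable def tc6 : TCL := ⟨[40,41,42], [40], 2, 16, 0x3f, 6, 0x7,
  fun a x => look 0xffff (nth tc6T 0 a) x, fun x => look 0xffff tc6d x, tc6r⟩
noncomputable def tc7T : List ℕ := [0,0,0,0,0,0,0,0,0,0,0,0,0,0,0,0,0,0,0,0,0,0,0,0,0,0,0,0,0,0,0,0,0,0,0,0,0,0,0,0,tc7t40]
noncomputable def tc7r : Tr Rule := (.leaf ⟨40,[40],0,1⟩)
noncomputable def tc7 : TCL := ⟨[40], [], 2, 16, 0x3f, 6, 0x3,
  fun a x => look 0xffff (nth tc7T 0 a) x, fun x => look 0xffff tc7d x, tc7r⟩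
noncomputable def tc : List TCL := [tc0, tc1, tc2, tc3, tc4, tc5, tc6, tc7]
noncomputable def inW : List (List ℕ) := [[46,41,44,42,47,44,45,42,44,46,45,42,44,45,41],
  [47,40,44,47,46,40,44,45,40,44,46,41,44,45,42,44,40],
  [45,48,45,44,43,42,48,41,47,42,44,45,44,46,41,44,45,41,44,43,41],
  [43,47,40,44,47,44,45,42,44,46,40,44,45,42,44],
  [47,44,43,40,47,42,44,45,42,44,46,45,44,45,41,44],
  [47,45,44,40,47,41,44,46,41,44,45,40,44,43],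
  [48,47,44,43,40,47,42,44,46,44,45,41,40]]
noncomputable def tcS : List ℕ := [40,41,42,43,44,45,46,47,48]

end Cfsg.Agent.CG.He
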