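import Cfsg.Agent.Lib.Grp.He.ODefs

set_option autoImplicit false
set_option maxRecDepth 100000
set_option Elab.async false

namespace Cfsg.Agent.CG.He

theorem Oc151 : cc0.chk (appT tabs t69 0xffff) 1 335 = true := by decide +kernel
theorem Oc152 : cc1.chk (appT tabs t69 0xffff) 1 1 = true := by decide +kernel
theorem Oc153 : cc2.chk (appT tabs t69 0xffff) 1 3 = true := by decide +kernel
theorem Oc154 : cc3.chk (appT tabs t69 0xffff) 1 3 = true := by decide +kernel
theorem Oc155 : cc4.chk (appT tabs t69 0xffff) 1 1 = true := by decide +kernel
theorem Oc156 : okcb 2058 16 (bases cc) = true := by decide +kernel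
theorem Oc157 : headAll (appT tabs t69 0xffff) cc [] = true := by decide +kernel
theorem Oc158 : tp0.head tpR = true := by decide +kernel
theorem Oc159 : allL (fun a => tp0.chk a 0 tp0.N) tp0.S = true := by decide +kernel
theorem Oc160 : tp1.head tpR = true := by decide +kernel
theorem Oc161 : allL (fun a => tp1.chk a 0 tp1.N) tp1.S = true := by decide +kernel
theorem Oc162 : tcLink tp [] [49,50,51,52,53] = true := by decide +kernel
theorem Oc163 : pc0.chk (appT tabs t69 0xffff) 1 511 = true := by decide +kernel
theorem Oc164 : pc1.chk (appT tabs t69 0xffff) 1 1 = true := by decide +kernel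
theorem Oc165 : okcb 2058 16 (bases pc) = true := by decide +kernel
theorem Oc166 : headAll (appT tabs t69 0xffff) pc [] = true := by decide +kernel
theorem Oc167 : allL (fun v => eqW (appT tabs t69 0xffff) bs v []) tpR = true := by decide +kernel
theorem Oc168 : trChk (appT tabs t69 0xffff) mc0 [mc1, mc2, mc3, mc4, mc5, mc6, mc7] bs (diagQ pQ) (diagQ pR) pF 0 2058 = true := by decide +kernel
theorem Oc169 : classChk (appT tabs t69 0xffff) bs 12 2 54 [13,16,17,11,23,21,24,28,28,29,29,34,37] pS pF pU = true := by decide +kernel
theorem Oc170 : powChk (appT tabs t69 0xffff) bs 10 17 aK nK = true := by decide +kernel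
theorem Oc171 : en.chk (appT tabs t69 0xffff) tst 0 5019 0 265743439678699744 = true := by decide +kernel
theorem Oc172 : en.chk (appT tabs t69 0xffff) tst 5019 5019 265743439678699744 517921585733067824 = true := by decide +kernel
theorem Oc173 : en.chk (appT tabs t69 0xffff) tst 10038 5019 517921585733067824 756621987874358400 = true := by decide +kernel
theorem Oc174 : en.chk (appT tabs t69 0xffff) tst 15057 5019 756621987874358400 999835471211147888 = true := by decide +kernel
theorem Oc175 : en.chk (appT tabs t69 0xffff) tst 20076 5019 999835471211147888 1238611669401219824 = true := by decide +kernel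
theorem Oc176 : en.chk (appT tabs t69 0xffff) tst 25095 5019 1238611669401219824 1517853262176334032 = true := by decide +kernel
theorem Oc177 : en.chk (appT tabs t69 0xffff) tst 30114 5019 1517853262176334032 1765480874558641536 = true := by decide +kernel
theorem Oc178 : en.chk (appT tabs t69 0xffff) tst 35133 5019 1765480874558641536 1873579909053431696 = true := by decide +kernel
theorem Oc179 : en.chk (appT tabs t69 0xffff) tst 40152 5019 1873579909053431696 2058265220384569616 = true := by decide +kernel
theorem Oc180 : en.chk (appT tabs t69 0xffff) tst 45171 5019 2058265220384569616 2337504271933644208 = true := by decide +kernel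
theorem Oc181 : en.chk (appT tabs t69 0xffff) tst 50190 5019 2337504271933644208 2594178596589284960 = true := by decide +kernel
theorem Oc182 : en.chk (appT tabs t69 0xffff) tst 55209 5019 2594178596589284960 2855408951345810160 = true := by decide +kernel
theorem Oc183 : en.chk (appT tabs t69 0xffff) tst 60228 5019 2855408951345810160 3103103014767983232 = true := by decide +kernel
theorem Oc184 : en.chk (appT tabs t69 0xffff) tst 65247 5019 3103103014767983232 3350682728972432640 = true := by decide +kernel
theorem Oc185 : en.chk (appT tabs t69 0xffff) tst 70266 5019 3350682728972432640 3575943522857009408 = true := by decide +kernel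
theorem Oc186 : en.chk (appT tabs t69 0xffff) tst 75285 5019 3575943522857009408 3832686840563911472 = true := by decide +kernel
theorem Oc187 : en.chk (appT tabs t69 0xffff) tst 80304 5019 3832686840563911472 4075837171448167440 = true := by decide +kernel
theorem Oc188 : en.chk (appT tabs t69 0xffff) tst 85323 5019 4075837171448167440 4359574188255609392 = true := by decide +kernel
theorem Oc189 : en.chk (appT tabs t69 0xffff) tst 90342 5019 4359574188255609392 4611778654424287728 = true := by decide +kernel
theorem Oc190 : en.chk (appT tabs t69 0xffff) tst 95361 5019 4611778654424287728 4841487866802475232 = true := by decide +kernel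
theorem Oc191 : en.chk (appT tabs t69 0xffff) tst 100380 5019 4841487866802475232 5066641871367858560 = true := by decide +kernel
theorem Oc192 : en.chk (appT tabs t69 0xffff) tst 105399 5019 5066641871367858560 5327894631762907600 = true := by decide +kernel
theorem Oc193 : en.chk (appT tabs t69 0xffff) tst 110418 5019 5327894631762907600 5580096209363673632 = true := by decide +kernel

end Cfsg.Agent.CG.He
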