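import Cfsg.Agent.Lib.Grp.He.ODefs

set_option autoImplicit false
set_option maxRecDepth 100000
set_option Elab.async false

namespace Cfsg.Agent.CG.He

theorem Oc194 : en.chk (appT tabs t69 0xffff) tst 115437 5019 5580096209363673632 5836680099767808224 = true := by decide +kernel
theorem Oc195 : en.chk (appT tabs t69 0xffff) tst 120456 5019 5836680099767808224 6088909853104805312 = true := by decide +kernel
theorem Oc196 : en.chk (appT tabs t69 0xffff) tst 125475 5019 6088909853104805312 6368170895074141136 = true := by decide +kernel
theorem Oc197 : en.chk (appT tabs t69 0xffff) tst 130494 5019 6368170895074141136 6597890896756221440 = true := by decide +kernel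
theorem Oc198 : en.chk (appT tabs t69 0xffff) tst 135513 5019 6597890896756221440 6854509419271575024 = true := by decide +kernel
theorem Oc199 : en.chk (appT tabs t69 0xffff) tst 140532 5019 6854509419271575024 7093255656656879504 = true := by decide +kernel
theorem Oc200 : en.chk (appT tabs t69 0xffff) tst 145551 5019 7093255656656879504 7354410489963639392 = true := by decide +kernel
theorem Oc201 : en.chk (appT tabs t69 0xffff) tst 150570 5019 7354410489963639392 7615605318600370816 = true := by decide +kernel
theorem Oc202 : en.chk (appT tabs t69 0xffff) tst 155589 5019 7615605318600370816 7894813857801055328 = true := by decide +kernel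
theorem Oc203 : en.chk (appT tabs t69 0xffff) tst 160608 5019 7894813857801055328 8142562759178979840 = true := by decide +kernel
theorem Oc204 : en.chk (appT tabs t69 0xffff) tst 165627 5019 8142562759178979840 8394741868012772080 = true := by decide +kernel
theorem Oc205 : en.chk (appT tabs t69 0xffff) tst 170646 5019 8394741868012772080 8651454192266774864 = true := by decide +kernel
theorem Oc206 : en.chk (appT tabs t69 0xffff) tst 175665 5019 8651454192266774864 8921646874368153216 = true := by decide +kernel
theorem Oc207 : en.chk (appT tabs t69 0xffff) tst 180684 5019 8921646874368153216 9178365590556922112 = true := by decide +kernel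
theorem Oc208 : en.chk (appT tabs t69 0xffff) tst 185703 1722 9178365590556922112 9264043660491647857 = true := by decide +kernel
theorem Oc209 : commAll (appT tabs t69 0xffff) bs 12 cc = true := by decide +kernel
theorem Oc210 : relChk (appT tabs t69 0xffff) bs 10 12 rT = true := by decide +kernel
theorem Oc211 : eqW (appT tabs t69 0xffff) bs (substW img [40,40]) [] = true := by decide +kernel
theorem Oc212 : eqW (appT tabs t69 0xffff) bs (substW img [41,42]) [] = true := by decide +kernel
theorem Oc213 : eqW (appT tabs t69 0xffff) bs (substW img [42,41]) [] = true := by decide +kernel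
theorem Oc214 : eqW (appT tabs t69 0xffff) bs (substW img [41,41,40]) [] = true := by decide +kernel
theorem Oc215 : eqW (appT tabs t69 0xffff) bs (substW img [43,43]) [] = true := by decide +kernel
theorem Oc216 : eqW (appT tabs t69 0xffff) bs (substW img [43,40,43,40]) [] = true := by decide +kernel
theorem Oc217 : eqW (appT tabs t69 0xffff) bs (substW img [43,41,43,42]) [] = true := by decide +kernel
theorem Oc218 : eqW (appT tabs t69 0xffff) bs (substW img [44,44]) [] = true := by decide +kernel
theorem Oc219 : eqW (appT tabs t69 0xffff) bs (substW img [44,43,44,43]) [] = true := by decide +kernel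
theorem Oc220 : eqW (appT tabs t69 0xffff) bs (substW img [44,40,44,41,44,42]) [] = true := by decide +kernel
theorem Oc221 : eqW (appT tabs t69 0xffff) bs (substW img [45,45]) [] = true := by decide +kernel
theorem Oc222 : eqW (appT tabs t69 0xffff) bs (substW img [45,40,45,40]) [] = true := by decide +kernel
theorem Oc223 : eqW (appT tabs t69 0xffff) bs (substW img [45,42,45,42]) [] = true := by decide +kernel
theorem Oc224 : eqW (appT tabs t69 0xffff) bs (substW img [45,43,45,40,43]) [] = true := by decide +kernel
theorem Oc225 : eqW (appT tabs t69 0xffff) bs (substW img [45,44,40,45,44,45,44,45,40,44]) [] = true := by decide +kernel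
theorem Oc226 : eqW (appT tabs t69 0xffff) bs (substW img [46,46]) [] = true := by decide +kernel
theorem Oc227 : eqW (appT tabs t69 0xffff) bs (substW img [46,40,46,40]) [] = true := by decide +kernel
theorem Oc228 : eqW (appT tabs t69 0xffff) bs (substW img [46,42,46,42]) [] = true := by decide +kernel
theorem Oc229 : eqW (appT tabs t69 0xffff) bs (substW img [46,43,46,43]) [] = true := by decide +kernel
theorem Oc230 : eqW (appT tabs t69 0xffff) bs (substW img [46,45,46,45]) [] = true := by decide +kernel
theorem Oc231 : eqW (appT tabs t69 0xffff) bs (substW img [46,44,42,46,44,46,40,42,43,44,42]) [] = true := by decide +kernel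
theorem Oc232 : eqW (appT tabs t69 0xffff) bs (substW img [44,41,45,44,46,44,46,45,44,46,44,45,42,44,46]) [] = true := by decide +kernel
theorem Oc233 : eqW (appT tabs t69 0xffff) bs (substW img [47,47]) [] = true := by decide +kernel
theorem Oc234 : eqW (appT tabs t69 0xffff) bs (substW img [47,45,47,45]) [] = true := by decide +kernel
theorem Oc235 : eqW (appT tabs t69 0xffff) bs (substW img [47,43,47,43,47,43]) [] = true := by decide +kernel
theorem Oc236 : eqW (appT tabs t69 0xffff) bs (substW img [47,46,47,46,47,46]) [] = true := by decide +kernel
theorem Oc237 : eqW (appT tabs t69 0xffff) bs (substW img [47,42,47,40,47,41,47,40]) [] = true := by decide +kernel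
theorem Oc238 : eqW (appT tabs t69 0xffff) bs (substW img [47,41,47,42,47,41,47,42]) [] = true := by decide +kernel
theorem Oc239 : eqW (appT tabs t69 0xffff) bs (substW img [47,44,47,44,47,44,47,44]) [] = true := by decide +kernel
theorem Oc240 : eqW (appT tabs t69 0xffff) bs (substW img [47,40,47,46,47,40,47,40,46]) [] = true := by decide +kernel
theorem Oc241 : eqW (appT tabs t69 0xffff) bs (substW img [47,44,42,46,44,47,44,42,46,44]) [] = true := by decide +kernel
theorem Oc242 : eqW (appT tabs t69 0xffff) bs (substW img [47,42,47,43,47,42,47,42,43,45]) [] = true := by decide +kernel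
theorem Oc243 : eqW (appT tabs t69 0xffff) bs (substW img [47,42,47,46,47,42,47,42,45,46]) [] = true := by decide +kernel
theorem Oc244 : eqW (appT tabs t69 0xffff) bs (substW img [47,40,44,41,47,42,44,47,40,45,44,46,44]) [] = true := by decide +kernel
theorem Oc245 : eqW (appT tabs t69 0xffff) bs (substW img [44,45,47,42,44,45,46,44,41,47,45,44,46,40,45]) [] = true := by decide +kernel
theorem Oc246 : eqW (appT tabs t69 0xffff) bs (substW img [48,48]) [] = true := by decide +kernel
theorem Oc247 : eqW (appT tabs t69 0xffff) bs (substW img [48,42,46,48,42,46]) [] = true := by decide +kernel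
theorem Oc248 : eqW (appT tabs t69 0xffff) bs (substW img [48,41,48,42,48,46]) [] = true := by decide +kernel
theorem Oc249 : eqW (appT tabs t69 0xffff) bs (substW img [48,44,47,44,48,44,47,44]) [] = true := by decide +kernel
theorem Oc250 : eqW (appT tabs t69 0xffff) bs (substW img [48,40,48,45,48,40,48,42,43,45,47,40,47]) [] = true := by decide +kernel
theorem Oc251 : eqW (appT tabs t69 0xffff) bs (substW img [48,42,44,47,40,44,43,40,47,44,41,48,45,47]) [] = true := by decide +kernel
theorem Oc252 : eqW (appT tabs t69 0xffff) bs (substW img [41,46,48,43,44,46,48,47,45,48,44,47,48,43,40,44]) [] = true := by decide +kernel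
theorem Oc253 : eqW (appT tabs t69 0xffff) bs (substW img [48,45,48,41,47,42,44,45,40,44,46,48,47,48,43]) [] = true := by decide +kernel
theorem Oc254 : eqW (appT tabs t69 0xffff) bs (substW img [48,45,48,47,43,46,47,46,43,48,45,48,43,46]) [] = true := by decide +kernel
theorem Oc255 : eqW (appT tabs t69 0xffff) bs (substW img [48,41,45,44,40,43,47,41,48,42,43,45,44,40,47,41]) [] = true := by decide +kernel
theorem Oc256 : eqW (appT tabs t69 0xffff) bs (substW img [48,44,45,47,48,42,44,46,44,41,48,47,45,44,48,45]) [] = true := by decide +kernel
theorem Oc257 : eqW (appT tabs t69 0xffff) bs (substW img [42,43,44,48,43,44,41,47,42,44,43,48,44,43,41,47]) [] = true := by decide +kernel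
theorem Oc258 : trChk (appT tabs t69 0xffff) mc0 [mc1, mc2, mc3, mc4, mc5, mc6, mc7] bs (pairQ 10 12 66 68 nQ) (pairQ 10 12 66 68 [[0], [1]]) [] 0 1251 = true := by decide +kernel
theorem Oc259 : trChk (appT tabs t69 0xffff) mc0 [mc1, mc2, mc3, mc4, mc5, mc6, mc7] bs (pairQ 10 12 66 68 nQ) (pairQ 10 12 66 68 [[0], [1]]) [] 1251 807 = true := by decide +kernel

end Cfsg.Agent.CG.He
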