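import Cfsg.Agent.Lib.Grp.He.OD1
import Cfsg.Agent.Lib.Grp.He.Defs

set_option autoImplicit false
set_option maxRecDepth 100000
set_option Elab.async false

namespace Cfsg.Agent.CG.He

noncomputable def cc0 : Lvl := ⟨112, [55,56,57,58], 336,
  fun i => look 0xffff cc0c (Nat.mul 16 i), fun i => look 0xfff cc0p (Nat.mul 12 i),
  fun i => look 255 cc0l (Nat.mul 8 i), fun i => look 255 cc0i (Nat.mul 8 i), fun x => look 0xffff cc0q x, 7⟩
noncomputable def cc1 : Lvl := ⟨12288, [59,60], 2,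
  fun i => look 0xffff cc1c (Nat.mul 16 i), fun i => look 0xf cc1p (Nat.mul 4 i),
  fun i => look 255 cc1l (Nat.mul 8 i), fun i => look 255 cc1i (Nat.mul 8 i), fun x => look 0xffff cc1q x, 1⟩
noncomputable def cc2 : Lvl := ⟨4480, [61,62], 4,
  fun i => look 0xffff cc2c (Nat.mul 16 i), fun i => look 0xf cc2p (Nat.mul 4 i),
  fun i => look 255 cc2l (Nat.mul 8 i), fun i => look 255 cc2i (Nat.mul 8 i), fun x => look 0xffff cc2q x, 2⟩
noncomputable def cc3 : Lvl := ⟨6448, [63,64], 4,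
  fun i => look 0xffff cc3c (Nat.mul 16 i), fun i => look 0xf cc3p (Nat.mul 4 i),
  fun i => look 255 cc3l (Nat.mul 8 i), fun i => look 255 cc3i (Nat.mul 8 i), fun x => look 0xffff cc3q x, 2⟩
noncomputable def cc4 : Lvl := ⟨29360, [65], 2,
  fun i => look 0xffff cc4c (Nat.mul 16 i), fun i => look 0xf cc4p (Nat.mul 4 i),
  fun i => look 255 cc4l (Nat.mul 8 i), fun i => look 255 cc4i (Nat.mul 8 i), fun x => look 0xffff cc4q x, 1⟩
noncomputable def cc : List Lvl := [cc0, cc1, cc2, cc3, cc4]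
noncomputable def pc0 : Lvl := ⟨112, [49,50,51,52,53], 512,
  fun i => look 0xffff pc0c (Nat.mul 16 i), fun i => look 0xfff pc0p (Nat.mul 12 i),
  fun i => look 255 pc0l (Nat.mul 8 i), fun i => look 255 pc0i (Nat.mul 8 i), fun x => look 0xffff pc0q x, 7⟩
noncomputable def pc1 : Lvl := ⟨12288, [49], 2,
  fun i => look 0xffff pc1c (Nat.mul 16 i), fun i => look 0xf pc1p (Nat.mul 4 i),
  fun i => look 255 pc1l (Nat.mul 8 i), fun i => look 255 pc1i (Nat.mul 8 i), fun x => look 0xffff pc1q x, 1⟩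
noncomputable def pc : List Lvl := [pc0, pc1]
noncomputable def tpR : List (List ℕ) := [[49,49],
  [50,51],
  [51,50],
  [52,52],
  [53,53],
  [52,49,52,49],
  [52,53,52,53],
  [51,51,53,50,53,51],
  [50,49,50,49,50,49,50,49],
  [50,52,51,49,50,52,51,49],
  [52,53,51,49,53,52,51,49],
  [53,49,53,49,53,49,53,49],
  [50,52,50,52,50,52,50,52],
  [51,53,51,52,50,53,50,52],
  [51,51,49,51,49,50,50,49,50,49]]
noncomputable def tp0T : List ℕ := [0,0,0,0,0,0,0,0,0,0,0,0,0,0,0,0,0,0,0,0,0,0,0,0,0,0,0,0,0,0,0,0,0,0,0,0,0,0,0,0,0,0,0,0,0,0,0,0,0,tp0t49,tp0t50,tp0t51,tp0t52,tp0t53]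
noncomputable def tp0r : Tr Rule := (.node (.node (.node (.node (.node (.node (.node (.leaf ⟨51,[50],1,1⟩) (.leaf ⟨51,[49,50,50,49,50,49,51,51,49],14,3⟩)) (.leaf ⟨49,[53,49,53,49,53,49,53],11,5⟩)) (.node (.leaf ⟨50,[52,51,49,50,52,51,49],9,4⟩) (.leaf ⟨52,[50,53,50,52,51,53,51],13,3⟩))) (.node (.node (.leaf ⟨53,[51,51,51,53,50],7,4⟩) (.leaf ⟨52,[50,52,50,52,50,52,50],12,5⟩)) (.node (.leaf ⟨51,[49,53,52,51,49,52,53],10,2⟩) (.leaf ⟨50,[49,50,49,50,49,50,49],8,0⟩)))) (.node (.node (.node (.node (.leaf ⟨53,[53],4,1⟩) (.leaf ⟨51,[51,49,51,49,50,50,49,50,49],14,0⟩)) (.leaf ⟨49,[50,49,50,49,50,49,50],8,3⟩)) (.node (.leaf ⟨53,[52,51,49,52,53,51,49],10,4⟩) (.leaf ⟨50,[49,50,49,50,49,50,49],8,2⟩))) (.node (.node (.leaf ⟨53,[52,53,52],6,3⟩) (.leaf ⟨50,[53,50,52,51,53,51,52],13,4⟩)) (.node (.leaf ⟨49,[52,49,52],5,1⟩) (.leaf ⟨49,[50,50,49,50,49,51,51,49,51],14,4⟩))))) (.node (.node (.node (.node (.node (.leaf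 ⟨49,[49],0,1⟩) (.leaf ⟨49,[51,51,49,51,49,50,50,49,50],14,9⟩)) (.leaf ⟨49,[53,49,53,49,53,49,53],11,3⟩)) (.node (.leaf ⟨51,[49,50,52,51,49,50,52],9,6⟩) (.leaf ⟨53,[51,52,50,53,50,52,51],13,1⟩))) (.node (.node (.leaf ⟨53,[50,53,51,51,51],7,2⟩) (.leaf ⟨52,[50,52,50,52,50,52,50],12,7⟩)) (.node (.leaf ⟨53,[51,49,53,52,51,49,52],10,1⟩) (.leaf ⟨50,[52,50,52,50,52,50,52],12,0⟩)))) (.node (.node (.node (.leaf ⟨52,[53,52,53],6,2⟩) (.leaf ⟨49,[50,52,51,49,50,52,51],9,7⟩)) (.node (.leaf ⟨49,[53,52,51,49,52,53,51],10,3⟩) (.leaf ⟨49,[50,49,50,49,50,49,50],8,7⟩))) (.node (.node (.leaf ⟨49,[50,49,50,49,50,49,50],8,5⟩) (.leaf ⟨50,[52,51,53,51,52,50,53],13,6⟩)) (.node (.leaf ⟨51,[51,51,53,50,53],7,5⟩) (.leaf ⟨50,[50,49,50,49,51,51,49,51,49],14,5⟩)))))) (.node (.node (.node (.node (.node (.node (.leaf ⟨50,[51],1,0⟩) (.leaf ⟨49,[51,49,50,50,49,50,49,51,51],14,2⟩)) (.leaf ⟨53,[49,53,49,53,49,53,49],11,4⟩)) (.node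 (.leaf ⟨49,[50,52,51,49,50,52,51],9,3⟩) (.leaf ⟨51,[53,51,52,50,53,50,52],13,0⟩))) (.node (.node (.leaf ⟨50,[53,51,51,51,53],7,3⟩) (.leaf ⟨50,[52,50,52,50,52,50,52],12,6⟩)) (.node (.leaf ⟨52,[53,51,49,53,52,51,49],10,0⟩) (.leaf ⟨52,[50,52,50,52,50,52,50],12,1⟩)))) (.node (.node (.node (.leaf ⟨49,[52,49,52],5,3⟩) (.leaf ⟨49,[52,53,51,49,53,52,51],10,7⟩)) (.node (.leaf ⟨52,[51,49,52,53,51,49,53],10,5⟩) (.leaf ⟨50,[52,50,52,50,52,50,52],12,2⟩))) (.node (.node (.leaf ⟨51,[53,50,53,51,51],7,1⟩) (.leaf ⟨53,[50,52,51,53,51,52,50],13,5⟩)) (.node (.leaf ⟨52,[51,49,50,52,51,49,50],9,5⟩) (.leaf ⟨49,[50,49,51,51,49,51,49,50,50],14,7⟩))))) (.node (.node (.node (.node (.node (.leaf ⟨52,[52],3,1⟩) (.leaf ⟨51,[49,51,49,50,50,49,50,49,51],14,1⟩)) (.leaf ⟨53,[49,53,49,53,49,53,49],11,6⟩)) (.node (.leaf ⟨50,[49,50,49,50,49,50,49],8,6⟩) (.leaf ⟨52,[50,52,50,52,50,52,50],12,3⟩))) (.node (.node (.leaf ⟨51,[51,53,50,53,51],7,0⟩)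 (.leaf ⟨53,[52,53,52],6,1⟩)) (.node (.leaf ⟨52,[49,52,49],5,0⟩) (.leaf ⟨50,[49,50,49,51,51,49,51,49,50],14,6⟩)))) (.node (.node (.node (.leaf ⟨52,[49,52,49],5,2⟩) (.leaf ⟨50,[52,50,52,50,52,50,52],12,4⟩)) (.node (.leaf ⟨51,[49,52,53,51,49,53,52],10,6⟩) (.leaf ⟨49,[53,49,53,49,53,49,53],11,1⟩))) (.node (.node (.leaf ⟨50,[49,50,49,50,49,50,49],8,4⟩) (.leaf ⟨51,[52,50,53,50,52,51,53],13,2⟩)) (.node (.leaf ⟨52,[53,52,53],6,0⟩) (.leaf ⟨50,[49,51,51,49,51,49,50,50,49],14,8⟩)))))))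
noncomputable def tp0 : TCL := ⟨[49,50,51,52,53], [49], 512, 28, 0x3fff, 14, 0x7f,
  fun a x => look 0xfffffff (nth tp0T 0 a) x, fun x => look 0xfffffff tp0d x, tp0r⟩
noncomputable def tp1T : List ℕ := [0,0,0,0,0,0,0,0,0,0,0,0,0,0,0,0,0,0,0,0,0,0,0,0,0,0,0,0,0,0,0,0,0,0,0,0,0,0,0,0,0,0,0,0,0,0,0,0,0,tp1t49]
noncomputable def tp1r : Tr Rule := (.leaf ⟨49,[49],0,1⟩)
noncomputable def tp1 : TCL := ⟨[49], [], 2, 16, 0x3f, 6, 0x3,
  fun a x => look 0xffff (nth tp1T 0 a) x, fun x => look 0xffff tp1d x, tp1r⟩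
noncomputable def tp : List TCL := [tp0, tp1]
noncomputable def pS : List ℕ := [49,50,51,52,53]
noncomputable def pQ : List (List ℕ) := [[],
  [52,51,51,52,51],
  [52,51,49,51],
  [50,50,49,50,52],
  [49,50,49,51],
  [52,50,49,50,50],
  [52,51,53,49,53,50],
  [50,50,50,50]]
noncomputable def pR : List (List ℕ) := [[49],
  [50],
  [51],
  [52],
  [53]]
noncomputable def pF : List (List ℕ) := [[],
  [17,16,18,13,10,20,21,20,28,28,31,31,34,37]]
noncomputable def pU : List (List ℕ) := [[15,14,17,24,27,25,32,34,37]]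
noncomputable def aK : List ℕ := [10,66]
noncomputable def nK : List (List ℕ × ℕ) := [([],0),
  ([],10),
  ([15,10,17,11,20,24,22,20,27,25,28,30,33,35,37,39],10),
  ([],66),
  ([18,15,12,24,20,21,27,25,25,32,30,34,34,37],10),
  ([11,12,17,14,10,19,23,20,20,27,27,27,32,29,34,34,35,37,39],66),
  ([15,10,17,11,20,24,22,20,27,25,28,30,33,35,37,39],66),
  ([16,11,16,11,13,23,19,23,19,27,25,27,32,29,34,37,39],66),
  ([16,11,16,11,13,23,19,23,19,27,25,27,32,29,34,37,39],10),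
  ([11,17,15,17,24,21,20,25,31,29,33,35,37,39],10),
  ([11,17,15,17,24,21,20,25,31,29,33,35,37,39],66),
  ([12,15,18,12,20,22,29,29,37],66),
  ([18,15,12,24,20,21,27,25,25,32,30,34,34,37],66),
  ([11,12,17,14,10,19,23,20,20,27,27,27,32,29,34,34,35,37,39],10),
  ([16,11,19,28,26,29,29,33,33,35,37,39],66),
  ([12,15,18,12,20,22,29,29,37],10),
  ([16,11,19,28,26,29,29,33,33,35,37,39],10)]
noncomputable def rT : List (List ℕ × ℕ) := [([0,1,0,1,0,1],12672),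
  ([0,1,0,1,0,1],3840),
  ([0,1,0,1,0,1],19680),
  ([0,1,0,1,0,1],26528),
  ([0,0,0,0,1,0,0,0,1,0,0,0,0,1,0,0,0,1,0,0,0,0,1,0,0,0,1,0,0,0,0,1,0,0,0,1,0,0,0,0,1,0,0,0,1,0,0,0,0,1,0,0,0,1,0,0,0,0,1,0,0,0,1,0,0,0,0,1,0,0,0,1],5280)]
noncomputable def uu : List (List ℕ) := [[],
  [10],
  [10,10],
  [10,10,10],
  [10,10,10,10],
  [11],
  [11,11],
  [11,16,11,22,23,22,20,27,26,27],
  [12,15,10,17,24,22,20,20,25,27,25,31,37],
  [13,17,17,14,19,24,22,27,25,33,37],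
  [15,18,12,10,21,20,21,20,26,32,34,34,37,39],
  [15,18,15,15,20,24,19,19,27,26,27,30,35,39],
  [16,11,22,23,22,20,27,26,27],
  [16,18,12,11,22,23,22,20,27,26,27],
  [16,18,13,16],
  [17,12,16,11,19,26,28,30,33,35,37],
  [18,15,12,16,20,20,25,27,29,29,34,34,35,37,39]]
noncomputable def wT : Tr ℕ := (.node (.node (.node (.node (.node (.node (.node (.node (.leaf w0) (.leaf w128)) (.leaf w64)) (.node (.node (.leaf w32) (.leaf w160)) (.leaf w96))) (.node (.node (.node (.leaf w16) (.leaf w144)) (.leaf w80)) (.node (.node (.leaf w48) (.leaf w176)) (.leaf w112)))) (.node (.node (.node (.node (.leaf w8) (.leaf w136)) (.leaf w72)) (.node (.node (.leaf w40) (.leaf w168)) (.leaf w104))) (.node (.node (.node (.leaf w24) (.leaf w152)) (.leaf w88)) (.node (.leaf w56) (.leaf w120))))) (.node (.node (.node (.node (.node (.leaf w4) (.leaf w132)) (.leaf w68)) (.node (.node (.leaf w36) (.leaf w164)) (.leaf w100)))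 (.node (.node (.node (.leaf w20) (.leaf w148)) (.leaf w84)) (.node (.node (.leaf w52) (.leaf w180)) (.leaf w116)))) (.node (.node (.node (.node (.leaf w12) (.leaf w140)) (.leaf w76)) (.node (.node (.leaf w44) (.leaf w172)) (.leaf w108))) (.node (.node (.node (.leaf w28) (.leaf w156)) (.leaf w92)) (.node (.leaf w60) (.leaf w124)))))) (.node (.node (.node (.node (.node (.node (.leaf w2) (.leaf w130)) (.leaf w66)) (.node (.node (.leaf w34) (.leaf w162)) (.leaf w98))) (.node (.node (.node (.leaf w18) (.leaf w146)) (.leaf w82)) (.node (.node (.leaf w50) (.leaf w178)) (.leaf w114)))) (.node (.node (.node (.node (.leaf w10) (.leaf w138)) (.leaf w74)) (.node (.node (.leaf w42) (.leaf w170)) (.leaf w106))) (.node (.node (.node (.leaf w26) (.leaf w154)) (.leaf w90)) (.node (.leaf w58) (.leaf w122))))) (.node (.node (.node (.node (.node (.leaf w6) (.leaf w134)) (.leaf w70)) (.node (.node (.leaf w38) (.leaf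 w166)) (.leaf w102))) (.node (.node (.node (.leaf w22) (.leaf w150)) (.leaf w86)) (.node (.node (.leaf w54) (.leaf w182)) (.leaf w118)))) (.node (.node (.node (.node (.leaf w14) (.leaf w142)) (.leaf w78)) (.node (.node (.leaf w46) (.leaf w174)) (.leaf w110))) (.node (.node (.node (.leaf w30) (.leaf w158)) (.leaf w94)) (.node (.leaf w62) (.leaf w126))))))) (.node (.node (.node (.node (.node (.node (.node (.leaf w1) (.leaf w129)) (.leaf w65)) (.node (.node (.leaf w33) (.leaf w161)) (.leaf w97))) (.node (.node (.node (.leaf w17) (.leaf w145)) (.leaf w81)) (.node (.node (.leaf w49) (.leaf w177)) (.leaf w113)))) (.node (.node (.node (.node (.leaf w9) (.leaf w137)) (.leaf w73)) (.node (.node (.leaf w41) (.leaf w169)) (.leaf w105))) (.node (.node (.node (.leaf w25) (.leaf w153)) (.leaf w89)) (.node (.leaf w57) (.leaf w121))))) (.node (.node (.node (.node (.node (.leaf w5) (.leaf w133)) (.leaf w69)) (.node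 (.node (.leaf w37) (.leaf w165)) (.leaf w101))) (.node (.node (.node (.leaf w21) (.leaf w149)) (.leaf w85)) (.node (.node (.leaf w53) (.leaf w181)) (.leaf w117)))) (.node (.node (.node (.node (.leaf w13) (.leaf w141)) (.leaf w77)) (.node (.node (.leaf w45) (.leaf w173)) (.leaf w109))) (.node (.node (.node (.leaf w29) (.leaf w157)) (.leaf w93)) (.node (.leaf w61) (.leaf w125)))))) (.node (.node (.node (.node (.node (.node (.leaf w3) (.leaf w131)) (.leaf w67)) (.node (.node (.leaf w35) (.leaf w163)) (.leaf w99))) (.node (.node (.node (.leaf w19) (.leaf w147)) (.leaf w83)) (.node (.node (.leaf w51) (.leaf w179)) (.leaf w115)))) (.node (.node (.node (.node (.leaf w11) (.leaf w139)) (.leaf w75)) (.node (.node (.leaf w43) (.leaf w171)) (.leaf w107))) (.node (.node (.node (.leaf w27) (.leaf w155)) (.leaf w91)) (.node (.leaf w59) (.leaf w123))))) (.node (.node (.node (.node (.node (.leaf w7) (.leaf w135))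 (.leaf w71)) (.node (.node (.leaf w39) (.leaf w167)) (.leaf w103))) (.node (.node (.node (.leaf w23) (.leaf w151)) (.leaf w87)) (.node (.node (.leaf w55) (.leaf w183)) (.leaf w119)))) (.node (.node (.node (.node (.leaf w15) (.leaf w143)) (.leaf w79)) (.node (.node (.leaf w47) (.leaf w175)) (.leaf w111))) (.node (.node (.node (.leaf w31) (.leaf w159)) (.leaf w95)) (.node (.leaf w63) (.leaf w127))))))))
noncomputable def en : Enum := ⟨inv, 8, 255, 4, fun i => force (Nat.shiftRight i 10) fun c => look 0xffffffff (wT.get c) (Nat.mul 32 (Nat.land i 1023)), 12, [16272,4752,6384,6656], 65536⟩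
noncomputable def tst : (ℕ → ℕ) → Bool := outTest (appT tabs t69 0xffff) bs aK rT [(10, 12), (66, 68)] uu
noncomputable def imgL : List (List ℕ) := [[],
  [],
  [],
  [],
  [],
  [],
  [],
  [],
  [],
  [],
  [],
  [],
  [],
  [],
  [],
  [],
  [],
  [],
  [],
  [],
  [],
  [],
  [],
  [],
  [],
  [],
  [],
  [],
  [],
  [],
  [],
  [],
  [],
  [],
  [],
  [],
  [],
  [],
  [],
  [],
  [20,22,20,25,28,31,29,34,37],
  [13,15,11,18,15,20,20,21,19,25,27,25,31,34,34,37],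
  [13,15,11,18,15,21,19,24,19,27,25,32,34,34],
  [19,26,27,31,34,35],
  [13,12,15,15,23,23,20,27,29,29,37,39],
  [13,15,11,18,15,20,24,22,20,27,27,26,27,31,29,33,33,35,37],
  [24,21,20,25,27,25,32,29,33,35,39],
  [21,21,24,28,28,32,29,34,34,37],
  [16,10,10,10,10,23,20,24,19,27,25,27,31,31,33,39]]
noncomputable def img (a : ℕ) : List ℕ := nth imgL [] a
noncomputable def nQ : List (List ℕ) := [[],
  [0,1,0,0,0,0,1,0,0,1,0,0,1,0,0,0,0,0,0,1],
  [1,0,0,1,0,0,1,0,0],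
  [1,0,0,1,0,0,0,1,0,0,0,1,0],
  [1,0,0,1,0,0,0,1,0,0,0,0,1,0],
  [0,0,0,0,0,0,1,0,0,0,1,0,0,0,1,0,0],
  [0,1,0,0,1,0,0,0,0,0,0,0,0,0,1,0,0],
  [0,1,0,0,0,1,0,0,0,0,0,1,0,0,0,1,0,0]]

end Cfsg.Agent.CG.He
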