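import Cfsg.Agent.Lib.Grp.He.OC0
import Cfsg.Agent.Lib.Grp.He.OC1
import Cfsg.Agent.Lib.Grp.He.Main

set_option autoImplicit false
set_option maxRecDepth 100000
set_option Elab.async false

namespace Cfsg.Agent.CG.He

theorem chainC : ChainOK act cc [] :=
  chainOK_of_chk act cc [] (by simp) (okc_of_okcb Oc156) Oc157
  (allL_cons Oc151 (allL_cons Oc152 (allL_cons Oc153 (allL_cons Oc154 (allL_cons Oc155 (allL_nil _))))))

theorem chainP : ChainOK act pc [] :=
  chainOK_of_chk act pc [] (by simp) (okc_of_okcb Oc165) Oc166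
  (allL_cons Oc163 (allL_cons Oc164 (allL_nil _)))

theorem boundsP : Bounds tpR pS (2 ^ 10) :=
  (show prodTC tp = 2 ^ 10 by decide +kernel) ▸ bounds_of_chain Oc162
  (allL_cons Oc158 (allL_cons Oc160 (allL_nil _)))
  (allL_cons Oc159 (allL_cons Oc161 (allL_nil _)))

theorem cardP : Nat.card (cl act.gen pS) = 2 ^ 10 :=
  card_cl_eq chainP (by decide +kernel) boundsP (base.rels Oc167) (by decide +kernel)

theorem centP : ∀ g ∈ Subgroup.centralizer (cl act.gen pS : Set PG), ∃ φ ∈ pF, g = ev act.gen φ :=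
  centralizer_subset (l := mc0) (L := [mc1, mc2, mc3, mc4, mc5, mc6, mc7]) chain card_le base (Q := pQ) (Rf := pR) (by decide +kernel) (by decide +kernel) (by decide +kernel)
    Oc168

theorem autT (φ : MulAut PG) : ∃ g : PG, φ (act.gen 12) = g * act.gen 12 * g⁻¹ :=
  aut_class base (r := 2) (by norm_num) cardP (not_dvd_of_eq card (by decide +kernel)) centP
    Oc169 φ

theorem autA (φ : MulAut PG) : ∃ g : PG, ∃ a' ∈ aK, g * φ (act.gen 10) * g⁻¹ = act.gen a' :=
  aut_pow base (p := 17) (by norm_num) (not_dvd_of_eq card (by decide +kernel))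
    Oc170 φ

theorem enumOK : en.OK app tst 0 187425 0 9264043660491647857 :=
  (Enum.OK.append (Enum.OK.append (Enum.OK.append (Enum.OK.append (Enum.OK.append (Enum.OK.append (Enum.OK.append (Enum.OK.append (Enum.OK.append (Enum.OK.append (Enum.OK.append (Enum.OK.append (Enum.OK.append (Enum.OK.append (Enum.OK.append (Enum.OK.append (Enum.OK.append (Enum.OK.append (Enum.OK.append (Enum.OK.append (Enum.OK.append (Enum.OK.append (Enum.OK.append (Enum.OK.append (Enum.OK.append (Enum.OK.append (Enum.OK.append (Enum.OK.append (Enum.OK.append (Enum.OK.append (Enum.OK.append (Enum.OK.append (Enum.OK.append (Enum.OK.append (Enum.OK.append (Enum.OK.append (Enum.OK.append (Enum.ok_of_chk Oc171)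
  (Enum.ok_of_chk Oc172))
  (Enum.ok_of_chk Oc173))
  (Enum.ok_of_chk Oc174))
  (Enum.ok_of_chk Oc175))
  (Enum.ok_of_chk Oc176))
  (Enum.ok_of_chk Oc177))
  (Enum.ok_of_chk Oc178))
  (Enum.ok_of_chk Oc179))
  (Enum.ok_of_chk Oc180))
  (Enum.ok_of_chk Oc181))
  (Enum.ok_of_chk Oc182))
  (Enum.ok_of_chk Oc183))
  (Enum.ok_of_chk Oc184))
  (Enum.ok_of_chk Oc185))
  (Enum.ok_of_chk Oc186))
  (Enum.ok_of_chk Oc187))
  (Enum.ok_of_chk Oc188))
  (Enum.ok_of_chk Oc189))
  (Enum.ok_of_chk Oc190))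
  (Enum.ok_of_chk Oc191))
  (Enum.ok_of_chk Oc192))
  (Enum.ok_of_chk Oc193))
  (Enum.ok_of_chk Oc194))
  (Enum.ok_of_chk Oc195))
  (Enum.ok_of_chk Oc196))
  (Enum.ok_of_chk Oc197))
  (Enum.ok_of_chk Oc198))
  (Enum.ok_of_chk Oc199))
  (Enum.ok_of_chk Oc200))
  (Enum.ok_of_chk Oc201))
  (Enum.ok_of_chk Oc202))
  (Enum.ok_of_chk Oc203))
  (Enum.ok_of_chk Oc204))
  (Enum.ok_of_chk Oc205))
  (Enum.ok_of_chk Oc206))
  (Enum.ok_of_chk Oc207))
  (Enum.ok_of_chk Oc208))

theorem cent_le : prodN cc ≤ Nat.card (Subgroup.centralizer {act.gen 12}) :=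
  le_card_centralizer base chainC Oc209

theorem classAll (g : PG) : ∃ f, act.Rep (g * act.gen 12 * g⁻¹) f ∧ tst f = true :=
  Enum.OK.all (A := act) (E := en) enumOK hinv (okc_of_okcb (n := 2058) (w := 16) (by decide +kernel)) cent_le
    (card ▸ (ble_iff _ _).1 (by decide +kernel)) g

theorem autPair (φ : MulAut PG) : ∃ s ∈ [(10, 12), (66, 68)], ∃ g : PG, φ (act.gen 10) = g * act.gen s.1 * g⁻¹ ∧ φ (act.gen 12) = g * act.gen s.2 * g⁻¹ :=
  aut_pair base Oc210 (okc_of_okcb (n := 2058) (w := 16) (by decide +kernel)) autA autT classAll φ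

theorem sigma : ∃ σ : MulAut PG, σ (act.gen 10) = act.gen 66 ∧ σ (act.gen 12) = act.gen 68 :=
  exists_aut' base bounds rels clS card.ge (img := img)
    (allL_cons Oc211 (allL_cons Oc212 (allL_cons Oc213 (allL_cons Oc214 (allL_cons Oc215 (allL_cons Oc216 (allL_cons Oc217 (allL_cons Oc218 (allL_cons Oc219 (allL_cons Oc220 (allL_cons Oc221 (allL_cons Oc222 (allL_cons Oc223 (allL_cons Oc224 (allL_cons Oc225 (allL_cons Oc226 (allL_cons Oc227 (allL_cons Oc228 (allL_cons Oc229 (allL_cons Oc230 (allL_cons Oc231 (allL_cons Oc232 (allL_cons Oc233 (allL_cons Oc234 (allL_cons Oc235 (allL_cons Oc236 (allL_cons Oc237 (allL_cons Oc238 (allL_cons Oc239 (allL_cons Oc240 (allL_cons Oc241 (allL_cons Oc242 (allL_cons Oc243 (allL_cons Oc244 (allL_cons Oc245 (allL_cons Oc246 (allL_cons Oc247 (allL_cons Oc248 (allL_cons Oc249 (allL_cons Oc250 (allL_cons Oc251 (allL_cons Oc252 (allL_cons Oc253 (allL_cons Oc254 (allL_cons Oc255 (allL_cons Oc256 (allL_cons Oc257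 (allL_nil _))))))))))))))))))))))))))))))))))))))))))))))))
    clAT (va := [45,48,40,44,45,41,48,47,41,44,41,47,45,40,44,46,44,45,40,44]) (vt := [41,47,43,48,46,44,48,44,47,45,44,40,47,46,44,45,44,46,40,44,45,40,44,41,40]) (wa := [45,48,45,44,43,42,48,43,45,44,40,47,46,44,45,44,46,45,43,41]) (wt := [43,41,47,40,48,40,47,46,41,44,45,44,46,45,40,44,45,42,44]) (by decide +kernel) (by decide +kernel)

theorem card_out : Nat.card (Out PG) = 2 := by
  obtain ⟨σ, h1, h2⟩ := sigma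
  exact card_out_eq_two clAT σ h1 h2 (not_conj_pair (l := mc0) (L := [mc1, mc2, mc3, mc4, mc5, mc6, mc7]) chain card_le base (Q := nQ) (Rf := [[0], [1]]) (by decide +kernel)
    (show trChk (appT tabs t69 0xffff) mc0 [mc1, mc2, mc3, mc4, mc5, mc6, mc7] bs (pairQ 10 12 66 68 nQ) (pairQ 10 12 66 68 [[0], [1]]) [] 0 2058 = true from (trChk_append Oc258 Oc259))) autPair

end Cfsg.Agent.CG.He
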